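import Cfsg.Agent.Lib.LocalEven.Out.Isometries
import Cfsg.Agent.Lib.PGroup.OneInvolutionClass

/-!
A 2-group with central involutions permuted transitively by its automorphisms: the automorphisms
fixing all involutions form a solvable group.
-/

set_option autoImplicit false

namespace CfsgLib.LocalEven.OutFix

open Subgroup CfsgLib.LocalEven.OutTools CfsgLib.LocalEven.OutIso CfsgLib.PGroup
open scoped commutatorElement

set_option maxHeartbeats 1000000 in
theorem isSolvable_fix_involutions {R : Type*} [Group R] [Finite R] (hR : IsPGroup 2 R)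
    (hcent : ∀ x : R, x ^ 2 = 1 → x ∈ center R)
    (htrans : ∀ x y : R, x ≠ 1 → x ^ 2 = 1 → y ≠ 1 → y ^ 2 = 1 → ∃ φ : MulAut R, φ x = y)
    (K : Subgroup (MulAut R)) (hK : ∀ k ∈ K, ∀ x : R, x ^ 2 = 1 → k x = x) :
    Group.IsSolvable K := by
  classical
  haveI : Fact (Nat.Prime 2) := ⟨Nat.prime_two⟩
  haveI : Finite (MulAut R) :=
    Finite.of_injective (fun φ : MulAut R => (φ : R → R)) DFunLike.coe_injective
  let V : Subgroup R :=
    { carrier := {x | x ^ 2 = 1}
      one_mem' := one_pow 2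
      mul_mem' := fun {x y} hx hy => by
        show (x * y) ^ 2 = 1
        rw [(show Commute x y from mem_center_iff.1 (hcent y hy) x).mul_pow, hx, hy, one_mul]
      inv_mem' := fun {x} hx => by
        show x⁻¹ ^ 2 = 1
        rw [inv_pow, (hx : x ^ 2 = 1), inv_one] }
  have hVmem : ∀ x, x ∈ V ↔ x ^ 2 = 1 := fun _ => Iff.rfl
  obtain ⟨Q, hQc, hQsq, hQcomm, hQcen⟩ := CfsgLib.Transfer.exists_critical hR
  haveI := hQc
  have hQmap : ∀ (φ : MulAut R) (x : R), x ∈ Q → φ x ∈ Q := fun φ x hx =>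
    (characteristic_iff_map_eq.1 hQc φ).le ⟨x, hx, rfl⟩
  have hQsq' : ∀ x ∈ Q, ∀ y ∈ Q, x ^ 2 * y = y * x ^ 2 := fun x hx y hy =>
    (mem_centralizer_iff.1 (hQsq x hx).2 y hy).symm
  have hQcomm' : ∀ x ∈ Q, ∀ g : R, ∀ y ∈ Q, ⁅x, g⁆ * y = y * ⁅x, g⁆ := fun x hx g y hy =>
    (mem_centralizer_iff.1 (hQcomm (commutator_mem_commutator hx (mem_top g))).2 y hy).symm
  have hVQ : V ≤ Q := fun x hx =>
    hQcen (mem_centralizer_iff.2 fun y _ => mem_center_iff.1 (hcent x hx) y)
  have hcV : ∀ x ∈ Q, ∀ y ∈ Q, ⁅x, y⁆ ∈ V := by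
    intro x hx y hy
    rw [hVmem]
    have hc := hQcomm' x hx y x hx
    have h1 : ⁅x ^ 2, y⁆ = 1 := commutatorElement_eq_one_iff_mul_comm.2 (hQsq' x hx y hy)
    have h2 : ⁅x ^ 2, y⁆ = x * ⁅x, y⁆ * x⁻¹ * ⁅x, y⁆ := by
      simp only [commutatorElement_def, sq]; group
    rw [h2, ← hc, mul_inv_cancel_right] at h1
    rw [sq, h1]
  have hsq : ∀ x ∈ Q, ∀ y ∈ Q, (x * y) ^ 2 = x ^ 2 * y ^ 2 * ⁅x, y⁆ := by
    intro x hx y hy
    have hc : ⁅x, y⁆⁻¹ = ⁅x, y⁆ :=
      inv_eq_of_mul_eq_one_right (by rw [← sq]; exact hcV x hx y hy)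
    have hcy := hQcomm' x hx y (y ^ 2) (pow_mem hy 2)
    calc (x * y) ^ 2 = x ^ 2 * (x⁻¹ * (y * x * y⁻¹ * x⁻¹) * x) * y ^ 2 := by
          simp only [sq]; group
      _ = x ^ 2 * (x⁻¹ * ⁅x, y⁆⁻¹ * x) * y ^ 2 := by rw [commutatorElement_inv, commutatorElement_def y x]
      _ = x ^ 2 * (⁅x, y⁆ * y ^ 2) := by
          rw [hc, mul_assoc x⁻¹, hQcomm' x hx y x hx, inv_mul_cancel_left, mul_assoc]
      _ = _ := by rw [hcy, mul_assoc]
  let Q2 : Subgroup R :=
    { carrier := {x | x ∈ Q ∧ x ^ 4 = 1}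
      one_mem' := ⟨one_mem _, one_pow _⟩
      mul_mem' := by
        rintro x y ⟨hx, hx4⟩ ⟨hy, hy4⟩
        refine ⟨mul_mem hx hy, ?_⟩
        have hxV : x ^ 2 ∈ V := by rw [hVmem, ← pow_mul]; exact hx4
        have hyV : y ^ 2 ∈ V := by rw [hVmem, ← pow_mul]; exact hy4
        have h := mul_mem (mul_mem hxV hyV) (hcV x hx y hy)
        rw [hVmem, ← hsq x hx y hy, ← pow_mul] at h
        exact h
      inv_mem' := by
        rintro x ⟨hx, hx4⟩
        exact ⟨inv_mem hx, by rw [inv_pow, hx4, inv_one]⟩ }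
  haveI : Q2.Characteristic := characteristic_iff_map_le.2 fun φ => by
    rintro _ ⟨x, hx, rfl⟩
    exact ⟨hQmap φ x hx.1, by rw [← map_pow, hx.2, map_one]⟩
  have hsqV : ∀ x ∈ Q2, x ^ 2 ∈ V := fun x hx => by rw [hVmem, ← pow_mul]; exact hx.2
  have hVn : V.Normal := ⟨fun x hx g => by
    rw [mem_center_iff.1 (hcent x hx) g, mul_inv_cancel_right]; exact hx⟩
  haveI : (V.subgroupOf Q2).Normal := Normal.subgroupOf hVn _
  letI : CommGroup V :=
    { (inferInstance : Group V) with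
      mul_comm := fun x y => Subtype.ext (mem_center_iff.1 (hcent _ y.2) x) }
  letI : CommGroup (Q2 ⧸ V.subgroupOf Q2) :=
    { (inferInstance : Group (Q2 ⧸ V.subgroupOf Q2)) with
      mul_comm := fun a b => by
        obtain ⟨x, rfl⟩ := QuotientGroup.mk_surjective a
        obtain ⟨y, rfl⟩ := QuotientGroup.mk_surjective b
        rw [← QuotientGroup.mk_mul, ← QuotientGroup.mk_mul, QuotientGroup.eq, mem_subgroupOf]
        have h := hcV (y : R)⁻¹ (inv_mem y.2.1) (x : R)⁻¹ (inv_mem x.2.1)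
        simpa [commutatorElement_def, mul_assoc] using h }
  let qf : Q2 ⧸ V.subgroupOf Q2 → V :=
    fun c => Quotient.liftOn' c (fun x => ⟨(x : R) ^ 2, hsqV _ x.2⟩) fun x y hxy => by
      rw [QuotientGroup.leftRel_apply] at hxy
      have hv : (x : R)⁻¹ * y ∈ V := hxy
      refine Subtype.ext ?_
      show (x : R) ^ 2 = (y : R) ^ 2
      have hcom : Commute (x : R) ((x : R)⁻¹ * y) := mem_center_iff.1 (hcent _ hv) x
      conv_rhs => rw [← mul_inv_cancel_left (x : R) (y : R), hcom.mul_pow, (hVmem _).1 hv, mul_one]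
  have hqf : ∀ x : Q2, qf (x : Q2 ⧸ V.subgroupOf Q2) = ⟨(x : R) ^ 2, hsqV _ x.2⟩ := fun _ => rfl
  let F : AnisoQuad.Form (Q2 ⧸ V.subgroupOf Q2) V :=
    { q := qf
      sqM := fun a => by
        obtain ⟨x, rfl⟩ := QuotientGroup.mk_surjective a
        rw [← QuotientGroup.mk_pow, QuotientGroup.eq_one_iff, mem_subgroupOf]
        simpa using hsqV _ x.2
      sqV := fun v => Subtype.ext (by simpa using (hVmem _).1 v.2)
      q_one := Subtype.ext (one_pow 2)
      aniso := fun a ha => by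
        obtain ⟨x, rfl⟩ := QuotientGroup.mk_surjective a
        rw [QuotientGroup.eq_one_iff, mem_subgroupOf, hVmem]
        exact congrArg Subtype.val ha
      cubic := fun a b c => by
        obtain ⟨x, rfl⟩ := QuotientGroup.mk_surjective a
        obtain ⟨y, rfl⟩ := QuotientGroup.mk_surjective b
        obtain ⟨w, rfl⟩ := QuotientGroup.mk_surjective c
        let cm : Q2 → Q2 → V := fun x y => ⟨⁅(x : R), (y : R)⁆, hcV _ x.2.1 _ y.2.1⟩
        have hcm : ∀ x y w : Q2, cm (x * y) w = cm x w * cm y w := fun x y w => Subtype.ext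
          (CfsgLib.PGroup.comm_mul_left (hcent _ (hcV _ y.2.1 _ w.2.1)))
        have hqm : ∀ x y : Q2, qf ((x * y : Q2) : Q2 ⧸ V.subgroupOf Q2) =
            qf x * qf y * cm x y := fun x y => Subtype.ext (hsq _ x.2.1 _ y.2.1)
        have h2 : ∀ v : V, v * v = 1 := fun v => Subtype.ext (by
          rw [Subgroup.coe_mul, ← sq]; exact v.2)
        simp only [← QuotientGroup.mk_mul, hqm, hcm]
        exact OneClass.cubic_identity (fun v => by rw [sq, h2]) _ _ _ _ _ _ }
  -- the induced action on the section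
  have hVchar : ∀ (φ : MulAut R) (x : R), x ∈ V → φ x ∈ V := fun φ x hx => by
    rw [hVmem] at hx ⊢; rw [← map_pow, hx, map_one]
  let res : MulAut R → (Q2 →* Q2) := fun φ => (φ.toMonoidHom.comp Q2.subtype).codRestrict Q2
    (fun x => (characteristic_iff_map_eq.1 inferInstance φ).le ⟨x, x.2, rfl⟩)
  let act : MulAut R → (Q2 ⧸ V.subgroupOf Q2) → (Q2 ⧸ V.subgroupOf Q2) := fun φ =>
    QuotientGroup.map _ _ (res φ) (fun x hx => hVchar φ _ hx)
  have hact : ∀ (φ : MulAut R) (x : Q2), act φ (x : Q2 ⧸ V.subgroupOf Q2) = (res φ x : Q2) :=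
    fun _ _ => rfl
  let ρ : MulAut R →* MulAut (Q2 ⧸ V.subgroupOf Q2) :=
    { toFun := fun φ =>
        { toFun := act φ
          invFun := act φ⁻¹
          left_inv := fun a => by
            obtain ⟨x, rfl⟩ := QuotientGroup.mk_surjective a
            rw [hact, hact]
            exact congrArg _ (Subtype.ext (φ.symm_apply_apply (x : R)))
          right_inv := fun a => by
            obtain ⟨x, rfl⟩ := QuotientGroup.mk_surjective a
            rw [hact, hact]
            exact congrArg _ (Subtype.ext (φ.apply_symm_apply (x : R)))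
          map_mul' := fun a b => map_mul (QuotientGroup.map _ _ (res φ) _) a b }
      map_one' := MulEquiv.ext fun a => by
        obtain ⟨x, rfl⟩ := QuotientGroup.mk_surjective a
        rfl
      map_mul' := fun φ ψ => MulEquiv.ext fun a => by
        obtain ⟨x, rfl⟩ := QuotientGroup.mk_surjective a
        rfl }
  have hρ : ∀ (φ : MulAut R) (x : Q2),
      ρ φ (x : Q2 ⧸ V.subgroupOf Q2) = (res φ x : Q2) := fun _ _ => rfl
  have hqeq : ∀ (φ : MulAut R) (a : Q2 ⧸ V.subgroupOf Q2),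
      ((F.q (ρ φ a) : V) : R) = φ (F.q a : V) := fun φ a => by
    obtain ⟨x, rfl⟩ := QuotientGroup.mk_surjective a
    rw [hρ]
    show (φ (x : R)) ^ 2 = φ ((x : R) ^ 2)
    rw [map_pow]
  -- the fibres are equally large
  obtain ⟨c, hfib⟩ : ∃ c, ∀ v : V, v ≠ 1 → {u | F.q u = v}.ncard = c := by
    by_cases hne : ∃ v : V, v ≠ 1
    swap
    · exact ⟨0, fun v hv => absurd ⟨v, hv⟩ hne⟩
    obtain ⟨v₀, hv₀⟩ := hne
    refine ⟨{u | F.q u = v₀}.ncard, fun v hv => ?_⟩
    obtain ⟨φ, hφ⟩ := htrans v v₀ (fun h => hv (Subtype.ext h)) v.2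
      (fun h => hv₀ (Subtype.ext h)) v₀.2
    rw [← Set.ncard_image_of_injective _ (ρ φ).injective]
    congr 1
    ext u
    constructor
    · rintro ⟨a, (ha : F.q a = v), rfl⟩
      refine Subtype.ext ?_
      rw [hqeq, ha, hφ]
    · intro (hu : F.q u = v₀)
      refine ⟨(ρ φ).symm u, Subtype.ext (φ.injective ?_), (ρ φ).apply_symm_apply u⟩
      rw [hφ, ← hqeq, MulEquiv.apply_symm_apply, hu]
  let ρK : K →* MulAut (Q2 ⧸ V.subgroupOf Q2) := ρ.comp K.subtype
  haveI : Group.IsSolvable ρK.range := isSolvable_isometries F hfib _ (by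
    rintro _ ⟨k, rfl⟩ a
    refine Subtype.ext ?_
    show ((F.q (ρ (k : MulAut R) a) : V) : R) = _
    rw [hqeq, hK _ k.2 _ (F.q a : V).2])
  -- the kernel is a 2-group
  have hker : IsPGroup 2 ρK.ker := by
    refine isPGroup_of_prime_elements fun ℓ hℓ hℓ2 g hg => ?_
    haveI := Fact.mk hℓ
    set h : MulAut R := (((g : ρK.ker) : K) : MulAut R) with hh
    have hhℓ : h ^ ℓ = 1 := congrArg (fun a : ρK.ker => ((a : K) : MulAut R)) hg
    have hodd : Odd ℓ := hℓ.odd_of_ne_two hℓ2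
    have hstep : ∀ (x q : R), h x = x * q → h q = q → q ^ ℓ = 1 := by
      intro x q hx hq
      have : ∀ i : ℕ, (h ^ i) x = x * q ^ i := by
        intro i
        induction i with
        | zero => simp
        | succ i ih => rw [pow_succ', MulAut.mul_apply, ih, map_mul, map_pow, hx, hq, pow_succ', mul_assoc]
      have h' := this ℓ
      rw [hhℓ, MulAut.one_apply] at h'
      exact left_eq_mul.1 h'
    have hfix2 : ∀ x ∈ Q2, h x = x := fun x hx => by
      have h1 : x⁻¹ * h x ∈ V := by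
        have hk := DFunLike.congr_fun (MonoidHom.mem_ker.1 (g : ρK.ker).2)
          ((⟨x, hx⟩ : Q2) : Q2 ⧸ V.subgroupOf Q2)
        rw [MulAut.one_apply, eq_comm, show ρK ((g : ρK.ker) : K)
          ((⟨x, hx⟩ : Q2) : Q2 ⧸ V.subgroupOf Q2) = (res h ⟨x, hx⟩ : Q2) from rfl,
          QuotientGroup.eq] at hk
        exact mem_subgroupOf.1 hk
      have h2 := hstep x (x⁻¹ * h x) (by rw [mul_inv_cancel_left]) (hK _ (g : ρK.ker).1.2 _ h1)
      have h3 := OneClass.eq_one_of_pow_odd_of_two hodd h2 (j := 1) (by rw [pow_one]; exact h1)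
      rw [inv_mul_eq_one] at h3
      exact h3.symm
    have hfixQ : ∀ j : ℕ, ∀ x ∈ Q, x ^ 2 ^ j = 1 → h x = x := by
      intro j
      induction j with
      | zero => intro x _ hx; rw [pow_zero, pow_one] at hx; subst hx; exact map_one h
      | succ j ih =>
        intro x hx hxj
        have h1 : h (x ^ 2) = x ^ 2 :=
          ih _ (pow_mem hx 2) (by rw [← pow_mul, ← pow_succ']; exact hxj)
        set q := x⁻¹ * h x with hq
        have hqQ : q ∈ Q := mul_mem (inv_mem hx) (hQmap h x hx)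
        have h2 : x ^ 2 * q ^ 2 * ⁅x, q⁆ = x ^ 2 := by
          rw [← hsq x hx q hqQ, hq, mul_inv_cancel_left, ← map_pow, h1]
        rw [mul_assoc, mul_eq_left] at h2
        have hq2 : q ^ 2 ∈ V := by
          rw [mul_eq_one_iff_eq_inv.1 h2]
          exact V.inv_mem (hcV x hx q hqQ)
        have hqQ2 : q ∈ Q2 := ⟨hqQ, by
          rw [hVmem, ← pow_mul] at hq2
          exact hq2⟩
        have h3 := OneClass.eq_one_of_pow_odd_of_two hodd
          (hstep x q (by rw [hq, mul_inv_cancel_left]) (hfix2 q hqQ2)) (j := 2) hqQ2.2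
        rw [hq, inv_mul_eq_one] at h3
        exact h3.symm
    have hfixQ' : ∀ x ∈ Q, h x = x := fun x hx => by
      obtain ⟨j, hj⟩ := hR x
      exact hfixQ j x hx hj
    refine Subtype.ext (Subtype.ext (MulEquiv.ext fun x => ?_))
    show h x = x
    have huQ : x⁻¹ * h x ∈ Q := hQcen (mem_centralizer_iff.2 fun y hy => by
      have hy' : x * y * x⁻¹ ∈ Q := (inferInstance : Q.Normal).conj_mem y hy x
      have e3 := hfixQ' _ hy'
      rw [map_mul, map_mul, hfixQ' y hy, map_inv] at e3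
      calc y * (x⁻¹ * h x) = x⁻¹ * (x * y * x⁻¹) * h x := by group
        _ = x⁻¹ * (h x * y * (h x)⁻¹) * h x := by rw [← e3]
        _ = x⁻¹ * h x * y := by group)
    obtain ⟨j, hj⟩ := hR (x⁻¹ * h x)
    have h3 := OneClass.eq_one_of_pow_odd_of_two hodd
      (hstep x _ (by rw [mul_inv_cancel_left]) (hfixQ' _ huQ)) hj
    rw [inv_mul_eq_one] at h3
    exact h3.symm
  haveI : Group.IsNilpotent ρK.ker := hker.isNilpotent
  haveI : Group.IsSolvable ρK.ker := inferInstance
  haveI : Group.IsSolvable (K ⧸ ρK.ker) := Group.isSolvable_of_surjective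
    (f := (QuotientGroup.quotientKerEquivRange ρK).symm.toMonoidHom) (MulEquiv.surjective _)
  exact (Group.isSolvable_iff_subgroup_quotient ρK.ker).2 ⟨inferInstance, inferInstance⟩

end CfsgLib.LocalEven.OutFix
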