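import Cfsg.Agent.S0205
import Cfsg.Agent.Lib.LocalEven.Out.AutTools
import Cfsg.Agent.Lib.Solvable.Averaging
import Cfsg.Agent.Lib.Recognition.Zsigmondy

/-!
The normaliser of a transitive linear group over the field of two elements is solvable modulo it.
-/

set_option autoImplicit false

namespace CfsgLib.LocalEven.OutLinear

open Subgroup CfsgLib.LocalEven.OutTools

variable {E : Type*} [CommGroup E] [Finite E]

instance finite_mulAut : Finite (MulAut E) :=
  Finite.of_injective (fun φ : MulAut E => (φ : E → E)) DFunLike.coe_injective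

/-- No proper nontrivial invariant subgroup. -/
def IsIrr (z : MulAut E) : Prop := ∀ U : Subgroup E, (∀ x ∈ U, z x ∈ U) → U = ⊥ ∨ U = ⊤

omit [Finite E] in
theorem eq_one_of_fix {z φ : MulAut E} (hz : IsIrr z) (hc : Commute φ z) {v : E} (hv : v ≠ 1)
    (h : φ v = v) : φ = 1 := by
  have hU : ∀ x ∈ fixSubgroup φ, z x ∈ fixSubgroup φ := fun x hx => by
    rw [mem_fixSubgroup] at hx ⊢
    rw [← MulAut.mul_apply, hc.eq, MulAut.mul_apply, hx]
  rcases hz _ hU with h0 | h0
  · exact absurd (mem_bot.1 (h0 ▸ (mem_fixSubgroup.2 h) : v ∈ (⊥ : Subgroup E))) hv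
  · exact MulEquiv.ext fun x => mem_fixSubgroup.1 (h0.symm ▸ mem_top x : x ∈ fixSubgroup φ)

omit [Finite E] in
theorem closure_powers_eq_top {z : MulAut E} (hz : IsIrr z) {v : E} (hv : v ≠ 1) :
    Subgroup.closure (Set.range fun i : ℕ => (z ^ i) v) = ⊤ := by
  refine (hz _ fun x hx => ?_).resolve_left fun h => hv ?_
  · induction hx using Subgroup.closure_induction with
    | mem y hy =>
      obtain ⟨i, rfl⟩ := hy
      exact Subgroup.subset_closure ⟨i + 1, by simp [pow_succ']⟩
    | one => rw [map_one]; exact one_mem _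
    | mul a b _ _ ha hb => rw [map_mul]; exact mul_mem ha hb
    | inv a _ ha => rw [map_inv]; exact inv_mem ha
  · have : v ∈ Subgroup.closure (Set.range fun i : ℕ => (z ^ i) v) :=
      Subgroup.subset_closure ⟨0, by simp⟩
    rwa [h, mem_bot] at this

omit [Finite E] in
theorem comm_of_irr {z : MulAut E} (hz : IsIrr z) {v : E} (hv : v ≠ 1) {φ ψ : MulAut E}
    (hφ : Commute φ z) (hψ : Commute ψ z) : φ * ψ = ψ * φ := by
  have happ : ∀ (χ : MulAut E), Commute χ z → ∀ (j : ℕ) (x : E), χ ((z ^ j) x) = (z ^ j) (χ x) :=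
    fun χ hχ j x => by rw [← MulAut.mul_apply, (hχ.pow_right j).eq, MulAut.mul_apply]
  have key : ∀ x : E, ∃ f : E →* E, f v = x ∧ ∀ j : ℕ, ∀ y, f ((z ^ j) y) = (z ^ j) (f y) ∧
      ∀ χ : MulAut E, Commute χ z → ∀ y, f (χ y) = χ (f y) := by
    intro x
    have hx : x ∈ Subgroup.closure (Set.range fun i : ℕ => (z ^ i) v) :=
      (closure_powers_eq_top hz hv).symm ▸ mem_top x
    induction hx using Subgroup.closure_induction with
    | mem y hy =>
      obtain ⟨i, rfl⟩ := hy
      refine ⟨(z ^ i).toMonoidHom, rfl, fun j y => ⟨?_, fun χ hχ y => (happ χ hχ i y).symm⟩⟩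
      show (z ^ i) ((z ^ j) y) = (z ^ j) ((z ^ i) y)
      rw [← MulAut.mul_apply, ← pow_add, add_comm, pow_add, MulAut.mul_apply]
    | one =>
      exact ⟨1, rfl, fun j y => ⟨(map_one (z ^ j)).symm, fun χ _ y => (map_one χ).symm⟩⟩
    | mul a b _ _ ha hb =>
      obtain ⟨f, hf, hf'⟩ := ha
      obtain ⟨g, hg, hg'⟩ := hb
      refine ⟨f * g, by simp [hf, hg], fun j y => ⟨?_, fun χ hχ y => ?_⟩⟩
      · simp [(hf' j y).1, (hg' j y).1]
      · simp [(hf' 0 y).2 χ hχ y, (hg' 0 y).2 χ hχ y]
    | inv a _ ha =>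
      obtain ⟨f, hf, hf'⟩ := ha
      refine ⟨f⁻¹, by simp [hf], fun j y => ⟨?_, fun χ hχ y => ?_⟩⟩
      · simp [(hf' j y).1]
      · simp [(hf' 0 y).2 χ hχ y]
  obtain ⟨f, hf, hf'⟩ := key (φ v)
  have hφf : ∀ y : E, φ y = f y := by
    intro y
    have hy : y ∈ Subgroup.closure (Set.range fun i : ℕ => (z ^ i) v) :=
      (closure_powers_eq_top hz hv).symm ▸ mem_top y
    induction hy using Subgroup.closure_induction with
    | mem y hy =>
      obtain ⟨i, rfl⟩ := hy
      show φ ((z ^ i) v) = f ((z ^ i) v)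
      rw [happ φ hφ, (hf' i v).1, hf]
    | one => simp
    | mul a b _ _ ha hb => simp [ha, hb]
    | inv a _ ha => simp [ha]
  refine MulEquiv.ext fun y => ?_
  rw [MulAut.mul_apply, MulAut.mul_apply, hφf, hφf]
  exact (hf' 0 y).2 ψ hψ y

theorem isSolvable_of_comm_ker {H K : Type*} [Group H] [Group K] [Finite H] (f : H →* K)
    (hK : ∀ a b : f.range, a * b = b * a) (hker : ∀ a b : f.ker, a * b = b * a) :
    Group.IsSolvable H := by
  haveI : Group.IsSolvable f.range := Group.isSolvable_of_comm hK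
  haveI : Group.IsSolvable (H ⧸ f.ker) := Group.isSolvable_of_surjective
    (f := (QuotientGroup.quotientKerEquivRange f).symm.toMonoidHom) (MulEquiv.surjective _)
  haveI : Group.IsSolvable f.ker := Group.isSolvable_of_comm hker
  exact (Group.isSolvable_iff_subgroup_quotient f.ker).2 ⟨inferInstance, inferInstance⟩

/-- The normaliser of a group centralising an irreducible member of itself is solvable. -/
theorem isSolvable_normalizer_of_irr (R : Subgroup (MulAut E)) {z : MulAut E} (hzR : z ∈ R)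
    (hcomm : ∀ x ∈ R, Commute x z) (hz : IsIrr z) {v : E} (hv : v ≠ 1) :
    Group.IsSolvable ↥(normalizer (R : Set (MulAut E))) := by
  haveI : Nontrivial E := ⟨⟨v, 1, hv⟩⟩
  have hR : ∀ a b : R, a * b = b * a := fun a b =>
    Subtype.ext (comm_of_irr hz hv (hcomm a a.2) (hcomm b b.2))
  have hcyc : IsCyclic R := Solvable.isCyclic_of_fpf_comm R.subtype
    (fun e he w hw => by_contra fun hw1 =>
      he (Subtype.ext (eq_one_of_fix hz (hcomm e e.2) hw1 hw))) hR
  refine isSolvable_of_comm_ker R.normalizerMonoidHom (fun a b => ?_) (fun a b => ?_)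
  · obtain ⟨g, hg⟩ := hcyc.exists_generator
    refine Subtype.ext (MulEquiv.ext fun x => ?_)
    obtain ⟨i, hi⟩ := hg ((a : MulAut R) g)
    obtain ⟨j, hj⟩ := hg ((b : MulAut R) g)
    obtain ⟨k, rfl⟩ := hg x
    show (a : MulAut R) ((b : MulAut R) (g ^ k)) = (b : MulAut R) ((a : MulAut R) (g ^ k))
    rw [map_zpow (b : MulAut R), map_zpow (a : MulAut R) g k]
    change (g ^ i : R) = (a : MulAut R) g at hi
    change (g ^ j : R) = (b : MulAut R) g at hj
    rw [← hi, ← hj, ← zpow_mul, ← zpow_mul, map_zpow, map_zpow, ← hi, ← hj, ← zpow_mul, ← zpow_mul]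
    congr 1
    ring
  · have hk : ∀ c : R.normalizerMonoidHom.ker,
        Commute ((c : ↥(normalizer (R : Set (MulAut E)))) : MulAut E) z := fun c => by
      have h := congrArg Subtype.val (DFunLike.congr_fun (MonoidHom.mem_ker.1 c.2) ⟨z, hzR⟩)
      exact mul_inv_eq_iff_eq_mul.1 h
    exact Subtype.ext (Subtype.ext (comm_of_irr hz hv (hk a) (hk b)))

/-- Divisors of `2 ^ n - 1` primitive in the sense of orders. -/
theorem exists_primitive {n : ℕ} (hn : 2 ≤ n) (h6 : n ≠ 6) :
    ∃ r : ℕ, r.Prime ∧ r ∣ 2 ^ n - 1 ∧ ∀ i : ℕ, 1 ≤ i → i < n → ¬ r ∣ 2 ^ i - 1 := by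
  by_cases h3 : n = 2
  · subst h3
    exact ⟨3, Nat.prime_three, by norm_num, fun i h1 h2 => by interval_cases i; norm_num⟩
  by_cases hexc : (n, 2) ∈ CfsgLib.Recognition.Zsigmondy.exceptions
  · simp only [CfsgLib.Recognition.Zsigmondy.exceptions, List.mem_cons, Prod.mk.injEq,
      List.not_mem_nil] at hexc
    rcases hexc with h | h | h | h | h | h | h | h | h
    · rw [h.1]; exact ⟨5, by norm_num, by norm_num, fun i h1 h2 => by interval_cases i <;> norm_num⟩
    · omega
    · omega
    · omega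
    · omega
    · rw [h.1]; exact ⟨11, by norm_num, by norm_num, fun i h1 h2 => by interval_cases i <;> norm_num⟩
    · rw [h.1]; exact ⟨13, by norm_num, by norm_num, fun i h1 h2 => by interval_cases i <;> norm_num⟩
    · rw [h.1]; exact ⟨19, by norm_num, by norm_num, fun i h1 h2 => by interval_cases i <;> norm_num⟩
    · exact h.elim
  obtain ⟨r, hr, hd, hprim, -⟩ :=
    CfsgLib.Recognition.Zsigmondy.exists_large_primitive (n := n) (q := 2) (by omega) le_rfl hexc
  exact ⟨r, hr, hd, hprim⟩

/-- `2 ^ d - 1` divisible by 9 forces `d = 0` below 6. -/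
theorem nine_not_dvd {d : ℕ} (hd : d ≤ 6) (h : 9 ∣ 2 ^ d - 1) : d = 0 ∨ d = 6 := by
  interval_cases d <;> first | omega | norm_num at h

omit [Finite E] in
theorem pow_two_eq {U : Subgroup E} (h2 : ∀ v : E, v ^ 2 = 1) [Finite U] :
    ∃ d, Nat.card U = 2 ^ d := by
  haveI : Fact (Nat.Prime 2) := ⟨Nat.prime_two⟩
  exact IsPGroup.iff_card.1 fun u => ⟨1, Subtype.ext (by simpa using h2 u)⟩

theorem card_le_of_subgroup {n d : ℕ} (hn : Nat.card E = 2 ^ n) {U : Subgroup E}
    (hd : Nat.card U = 2 ^ d) : d ≤ n :=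
  (Nat.pow_le_pow_iff_right one_lt_two).1 (hd ▸ hn ▸ card_le_card_group U)

theorem eq_bot_or_top {n d : ℕ} (hn : Nat.card E = 2 ^ n) {U : Subgroup E}
    (hd : Nat.card U = 2 ^ d) (h : d = 0 ∨ d = n) : U = ⊥ ∨ U = ⊤ := by
  rcases h with rfl | rfl
  · exact Or.inl (U.eq_bot_of_card_eq (by simpa using hd))
  · exact Or.inr (eq_top_of_card_eq U (hd.trans hn.symm))

/-- An automorphism of primitive prime order is irreducible. -/
theorem isIrr_of_primitive (h2 : ∀ v : E, v ^ 2 = 1) {n r : ℕ} [hr : Fact r.Prime]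
    (hn : Nat.card E = 2 ^ n) (hprim : ∀ i : ℕ, 1 ≤ i → i < n → ¬ r ∣ 2 ^ i - 1) (hr2 : r ≠ 2)
    {z : MulAut E} (hz : z ^ r = 1) (hz1 : z ≠ 1) : IsIrr z := by
  have hmod : ∀ a : ℕ, 0 < a → ¬ r ∣ 2 ^ a := fun a _ h =>
    hr2 ((Nat.prime_dvd_prime_iff_eq hr.out Nat.prime_two).1 (hr.out.dvd_of_dvd_pow h))
  have key : ∀ (U : Subgroup E), (∀ x ∈ U, z x ∈ U) → ∀ d j, Nat.card U = 2 ^ d →
      Nat.card ↥(U ⊓ fixSubgroup z) = 2 ^ j → d - j = 0 ∨ n ≤ d - j := by
    intro U hU d j hd hj
    by_contra hcon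
    push Not at hcon
    have hle : j ≤ d := (Nat.pow_le_pow_iff_right one_lt_two).1
      (hd ▸ hj ▸ Nat.card_le_card_of_injective _ (inclusion_injective (inf_le_left : U ⊓ fixSubgroup z ≤ U)))
    have h := card_modEq_fixed hz U hU
    rw [hd, hj] at h
    have h' := (Nat.modEq_iff_dvd' (Nat.pow_le_pow_right two_pos hle)).1 h.symm
    rw [show 2 ^ d - 2 ^ j = 2 ^ j * (2 ^ (d - j) - 1) by
      rw [Nat.mul_sub, ← pow_add, Nat.add_sub_cancel' hle, mul_one]] at h'
    rcases hr.out.dvd_mul.1 h' with h'' | h''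
    · exact hr2 ((Nat.prime_dvd_prime_iff_eq hr.out Nat.prime_two).1 (hr.out.dvd_of_dvd_pow h''))
    · exact hprim (d - j) (by omega) hcon.2 h''
  intro U hU
  obtain ⟨d, hd⟩ := pow_two_eq (U := U) h2
  obtain ⟨j, hj⟩ := pow_two_eq (U := U ⊓ fixSubgroup z) h2
  obtain ⟨k, hk⟩ := pow_two_eq (U := (⊤ : Subgroup E) ⊓ fixSubgroup z) h2
  have htop := key ⊤ (fun _ _ => mem_top _) n k (by rw [card_top, hn]) hk
  have hk0 : k = 0 := by
    rcases htop with h | h
    · exfalso
      refine hz1 (MulEquiv.ext fun x => ?_)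
      have hkn : k ≤ n := card_le_of_subgroup hn hk
      have : (⊤ : Subgroup E) ⊓ fixSubgroup z = ⊤ :=
        eq_top_of_card_eq _ (by rw [hk, hn]; congr 1; omega)
      exact mem_fixSubgroup.1 (this.symm ▸ mem_top x : x ∈ (⊤ : Subgroup E) ⊓ fixSubgroup z).2
    · have hkn : k ≤ n := card_le_of_subgroup hn hk
      omega
  have hj0 : j = 0 := by
    have hle := Nat.card_le_card_of_injective _ (inclusion_injective
      (inf_le_inf_right (fixSubgroup z) (le_top : U ≤ ⊤)))
    rw [hj, hk, hk0] at hle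
    exact Nat.le_zero.1 ((Nat.pow_le_pow_iff_right one_lt_two).1 hle)
  refine eq_bot_or_top hn hd ?_
  have hdn : d ≤ n := card_le_of_subgroup hn hd
  rcases key U hU d j hd hj with h | h <;> omega

/-- The primes dividing some `2 ^ 6 - 2 ^ d`. -/
theorem prime_six {ℓ d : ℕ} (hℓ : ℓ.Prime) (hd : d < 6) (h : ℓ ∣ 2 ^ 6 - 2 ^ d) :
    ℓ ≤ 3 ∨ ℓ = 5 ∨ ℓ = 7 ∨ ℓ = 31 := by
  have h' : ℓ ∣ 2 ^ 5 * 3 ^ 2 * 5 * 7 * 31 := h.trans (by interval_cases d <;> norm_num)
  rcases hℓ.dvd_mul.1 h' with h1 | h1
  · rcases hℓ.dvd_mul.1 h1 with h2 | h2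
    · rcases hℓ.dvd_mul.1 h2 with h3 | h3
      · rcases hℓ.dvd_mul.1 h3 with h4 | h4
        · have := (Nat.prime_dvd_prime_iff_eq hℓ Nat.prime_two).1 (hℓ.dvd_of_dvd_pow h4)
          omega
        · have := (Nat.prime_dvd_prime_iff_eq hℓ Nat.prime_three).1 (hℓ.dvd_of_dvd_pow h4)
          omega
      · exact Or.inr (Or.inl ((Nat.prime_dvd_prime_iff_eq hℓ (by norm_num)).1 h3))
    · exact Or.inr (Or.inr (Or.inl ((Nat.prime_dvd_prime_iff_eq hℓ (by norm_num)).1 h2)))
  · exact Or.inr (Or.inr (Or.inr ((Nat.prime_dvd_prime_iff_eq hℓ (by norm_num)).1 h1)))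

/-- The orbit of a Sylow subgroup of a transitive group is divisible by the prime part. -/
theorem pow_dvd_ncard {r k : ℕ} [Fact r.Prime] {X : Type*} [Group X] [Finite X] {Ω : Type*}
    [MulAction X Ω] (R : Sylow r X) {v : Ω} (h : r ^ k ∣ Nat.card (MulAction.orbit X v)) :
    r ^ k ∣ Nat.card (MulAction.orbit ↥(R : Subgroup X) v) := by
  set S := MulAction.stabilizer X v with hS
  set S' := MulAction.stabilizer ↥(R : Subgroup X) v with hS'
  rw [Nat.card_congr (MulAction.orbitEquivQuotientStabilizer X v)] at h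
  rw [Nat.card_congr (MulAction.orbitEquivQuotientStabilizer ↥(R : Subgroup X) v)]
  obtain ⟨i, hi⟩ := IsPGroup.iff_card.1 R.2
  have hR : Nat.card ↥(R : Subgroup X) = r ^ (Nat.card X).factorization r := R.card_eq_multiplicity
  obtain ⟨a, ha⟩ := IsPGroup.iff_card.1 (R.2.to_subgroup S')
  have hmulX : S.index * Nat.card S = Nat.card X := by rw [mul_comm, card_mul_index]
  have hmulR : S'.index * r ^ a = r ^ (Nat.card X).factorization r := by
    rw [← ha, mul_comm, card_mul_index, hR]
  have hle : a ≤ (Nat.card S).factorization r := by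
    refine ((Fact.out : r.Prime).pow_dvd_iff_le_factorization Nat.card_pos.ne').1 ?_
    rw [← ha]
    let f : S' →* S :=
      { toFun := fun g => ⟨((g : ↥(R : Subgroup X)) : X), g.2⟩
        map_one' := rfl
        map_mul' := fun _ _ => rfl }
    exact card_dvd_of_injective f fun g g' e => Subtype.ext (Subtype.ext (congrArg Subtype.val e :))
  have hk' : k ≤ (Nat.card (X ⧸ S)).factorization r :=
    ((Fact.out : r.Prime).pow_dvd_iff_le_factorization Nat.card_pos.ne').1 h
  have hsum : (Nat.card X).factorization r =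
      (Nat.card (X ⧸ S)).factorization r + (Nat.card S).factorization r := by
    rw [← hmulX, Nat.factorization_mul index_ne_zero_of_finite Nat.card_pos.ne']
    rfl
  have hpa : r ^ a ≤ r ^ (Nat.card X).factorization r :=
    Nat.le_of_dvd (pow_pos (Fact.out : r.Prime).pos _) ⟨_, by rw [← hmulR, mul_comm]⟩
  have hidx : S'.index = r ^ ((Nat.card X).factorization r - a) := by
    refine Nat.eq_of_mul_eq_mul_right (pow_pos (Fact.out : r.Prime).pos a) ?_
    rw [hmulR, ← pow_add, Nat.sub_add_cancel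
      ((Nat.pow_le_pow_iff_right (Fact.out : r.Prime).one_lt).1 hpa)]
  show r ^ k ∣ S'.index
  rw [hidx]
  exact pow_dvd_pow r (by omega)

/-- A 3-group with orbits divisible by nine on a group of order 64 has solvable normaliser. -/
theorem isSolvable_normalizer_six (h2 : ∀ v : E, v ^ 2 = 1) (hn : Nat.card E = 2 ^ 6)
    (R : Subgroup (MulAut E)) (hR : IsPGroup 3 R)
    (horb : ∀ v : E, v ≠ 1 → 9 ∣ Nat.card (MulAction.orbit ↥R v)) :
    Group.IsSolvable ↥(normalizer (R : Set (MulAut E))) := by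
  classical
  haveI : Fact (Nat.Prime 3) := ⟨Nat.prime_three⟩
  haveI : Nontrivial E := Finite.one_lt_card_iff_nontrivial.1 (by rw [hn]; norm_num)
  obtain ⟨v, hv⟩ := exists_ne (1 : E)
  -- invariant subgroups of `R`
  have hinv : ∀ U : Subgroup E, (∀ g ∈ R, ∀ x ∈ U, g x ∈ U) → U = ⊥ ∨ U = ⊤ := by
    intro U hU
    obtain ⟨d, hd⟩ := pow_two_eq (U := U) h2
    refine eq_bot_or_top hn hd (nine_not_dvd (card_le_of_subgroup hn hd) ?_)
    -- the orbits partition the nonidentity elements
    let ρ : R →* MulAut E := R.subtype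
    have hstab : ∀ (g : R) (x : E), x ∈ ((U : Set E) \ {1}) → g • x ∈ ((U : Set E) \ {1}) :=
      fun g x hx => ⟨hU g g.2 x hx.1, fun h => hx.2 (by
        have h' : (g : MulAut E) x = 1 := h
        exact (map_eq_one_iff _ (g : MulAut E).injective).1 h')⟩
    let W : SubMulAction R E :=
      { carrier := (U : Set E) \ {1}
        smul_mem' := fun g {x} hx => hstab g x hx }
    have h9 : 9 ∣ Nat.card W := by
      haveI : Fintype (Quotient (MulAction.orbitRel R W)) := Fintype.ofFinite _
      rw [Nat.card_congr (MulAction.selfEquivSigmaOrbits R W), Nat.card_sigma]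
      refine Finset.dvd_sum fun q _ => ?_
      have h := horb (q.out : E) q.out.2.2
      rwa [← SubMulAction.val_image_orbit, Nat.card_image_of_injective Subtype.val_injective] at h
    have hWc : Nat.card W = 2 ^ d - 1 := by
      rw [show Nat.card W = ((U : Set E) \ {1}).ncard from Nat.card_coe_set_eq _,
        Set.ncard_diff_singleton_of_mem U.one_mem, ← Nat.card_coe_set_eq]
      exact congrArg (· - 1) hd
    rwa [hWc] at h9
  have hR3 : ∀ g ∈ R, g ^ 3 = 1 → g ≠ 1 → (∀ x ∈ R, Commute x g) → ∀ w : E, g w = w → w = 1 := by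
    intro g hg hg3 hg1 hc w hw
    have hU : ∀ x ∈ R, ∀ y ∈ fixSubgroup g, x y ∈ fixSubgroup g := fun x hx y hy => by
      rw [mem_fixSubgroup] at hy ⊢
      rw [← MulAut.mul_apply, ← (hc x hx).eq, MulAut.mul_apply, hy]
    rcases hinv _ hU with h | h
    · exact mem_bot.1 (h ▸ (mem_fixSubgroup.2 hw) : w ∈ (⊥ : Subgroup E))
    · exact absurd (MulEquiv.ext fun x => mem_fixSubgroup.1
        (h.symm ▸ mem_top x : x ∈ fixSubgroup g)) hg1
  obtain ⟨b, hb⟩ := IsPGroup.iff_card.1 hR
  have hRnine : 9 ∣ Nat.card R := by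
    have h := horb v hv
    rw [Nat.card_congr (MulAction.orbitEquivQuotientStabilizer R v)] at h
    exact h.trans (card_quotient_dvd_card _)
  -- central elements act without fixed points
  have hcen : ∀ g ∈ R, g ≠ 1 → (∀ x ∈ R, Commute x g) → ∀ w : E, g w = w → w = 1 := by
    intro g hg hg1 hc w hw
    obtain ⟨i, hi⟩ := IsPGroup.iff_orderOf.1 hR ⟨g, hg⟩
    rw [Subgroup.orderOf_mk] at hi
    rcases i with _ | i
    · exact absurd (orderOf_eq_one_iff.1 (by simpa using hi)) hg1
    refine hR3 (g ^ 3 ^ i) (pow_mem hg _) (by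
        rw [← pow_mul, ← pow_succ, ← hi, pow_orderOf_eq_one]) (fun h => ?_)
      (fun x hx => (hc x hx).pow_right _) w ?_
    · have hd := orderOf_dvd_of_pow_eq_one h
      rw [hi, Nat.pow_dvd_pow_iff_le_right (by norm_num)] at hd
      omega
    · exact mem_fixSubgroup.1 (by
        have hst : g ∈ MulAction.stabilizer (MulAut E) w := hw
        exact pow_mem hst (3 ^ i))
  by_cases hab : ∀ a ∈ R, ∀ b ∈ R, a * b = b * a
  · -- a cyclic group of order at least nine
    have hRc : IsCyclic R := Solvable.isCyclic_of_fpf_comm R.subtype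
      (fun e he w hw => hcen e e.2 (fun h => he (Subtype.ext h)) (fun x hx => hab x hx e e.2) w hw)
      (fun a c => Subtype.ext (hab a a.2 c c.2))
    obtain ⟨g, hg⟩ := hRc.exists_generator
    refine isSolvable_normalizer_of_irr R g.2 (fun x hx => hab x hx g g.2) (fun U hU => hinv U ?_) hv
    intro x hx y hy
    obtain ⟨i, hi⟩ := mem_powers_iff_mem_zpowers.2 (hg ⟨x, hx⟩)
    have hi' : (g : MulAut E) ^ i = x := congrArg Subtype.val hi
    rw [← hi']
    have : ∀ m : ℕ, ((g : MulAut E) ^ m) y ∈ U := fun m => by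
      induction m with
      | zero => simpa using hy
      | succ m ih => rw [pow_succ', MulAut.mul_apply]; exact hU _ ih
    exact this i
  -- the noncommutative case: the normaliser is a {2,3}-group
  haveI : Nontrivial R := by
    rw [nontrivial_iff_ne_bot]
    intro h
    rw [h, card_bot] at hRnine
    norm_num at hRnine
  have hprod : (∏ i : Fin 6, (2 ^ 6 - 2 ^ (i : ℕ)) : ℕ) = 20158709760 := by
    simp only [Fin.prod_univ_six]; norm_num
  have hb4 : b ≤ 4 := by
    have h := (card_subgroup_dvd_card R).trans (card_mulAut_dvd h2 hn)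
    rw [hb, hprod] at h
    by_contra hlt
    have h5 : 3 ^ 5 ∣ 20158709760 := (pow_dvd_pow 3 (by omega)).trans h
    norm_num at h5
  refine isSolvable_of_card_dvd (n := 2 ^ 100 * 3 ^ 100) (by positivity) ?_ ?_
  · rw [Nat.primeFactors_mul (by positivity) (by positivity),
      Nat.primeFactors_prime_pow (by norm_num) Nat.prime_two,
      Nat.primeFactors_prime_pow (by norm_num) Nat.prime_three]
    exact le_of_eq (by decide)
  -- only the primes 2 and 3 occur
  set N := normalizer (R : Set (MulAut E)) with hN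
  have hprimes : ∀ ℓ : ℕ, ℓ.Prime → ℓ ∣ Nat.card N → ℓ = 2 ∨ ℓ = 3 := by
    intro ℓ hℓ hd
    by_contra hne
    push Not at hne
    haveI := Fact.mk hℓ
    obtain ⟨⟨c, hcN⟩, hc⟩ := exists_prime_orderOf_dvd_card' (G := N) ℓ hd
    rw [Subgroup.orderOf_mk] at hc
    have hcℓ : c ^ ℓ = 1 := by rw [← hc]; exact pow_orderOf_eq_one c
    have hc1 : c ≠ 1 := fun h => by rw [h, orderOf_one] at hc; exact hℓ.ne_one hc.symm
    set T : MulAut R := R.normalizerMonoidHom ⟨c, hcN⟩ with hTdef
    have hT : T ^ ℓ = 1 := by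
      rw [hTdef, ← map_pow, show (⟨c, hcN⟩ : N) ^ ℓ = 1 from Subtype.ext hcℓ, map_one]
    -- the prime is at most 31
    have hℓset : ℓ ≤ 3 ∨ ℓ = 5 ∨ ℓ = 7 ∨ ℓ = 31 := by
      obtain ⟨d, hd'⟩ := pow_two_eq (U := fixSubgroup c) h2
      have hd6 : d ≤ 6 := card_le_of_subgroup hn hd'
      have h := card_modEq_fixed hcℓ ⊤ (fun _ _ => mem_top _)
      rw [card_top, top_inf_eq, hn, hd'] at h
      have hlt : d < 6 := by
        refine lt_of_le_of_ne hd6 fun hd6' => hc1 (MulEquiv.ext fun x => ?_)
        have := eq_top_of_card_eq (fixSubgroup c) (by rw [hd', hn, hd6'])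
        exact mem_fixSubgroup.1 (this.symm ▸ mem_top x : x ∈ fixSubgroup c)
      have h' := (Nat.modEq_iff_dvd' (Nat.pow_le_pow_right two_pos hd6)).1 h.symm
      exact prime_six hℓ hlt h'
    -- `c` centralises `R`
    have hT1 : T = 1 := by
      refine eq_one_of_trivial_frattini hR hne.2 hT (fun x => ?_)
      let V := R ⧸ frattini R
      set U := frattiniHom R T with hUdef
      have hU : U ^ ℓ = 1 := by rw [hUdef, ← map_pow, hT, map_one]
      obtain ⟨k, hk⟩ := IsPGroup.iff_card.1 (hR.to_quotient (frattini R))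
      obtain ⟨j, hj⟩ :=
        IsPGroup.iff_card.1 ((hR.to_quotient (frattini R)).to_subgroup (fixSubgroup U))
      have hjk : j ≤ k := (Nat.pow_le_pow_iff_right (by norm_num : 1 < 3)).1
        (hj ▸ hk ▸ card_le_card_group (fixSubgroup U))
      have hkb : k ≤ b := by
        have := Nat.le_of_dvd Nat.card_pos (card_quotient_dvd_card (frattini R))
        rw [hk, hb] at this
        exact (Nat.pow_le_pow_iff_right (by norm_num : 1 < 3)).1 this
      have hk3 : k ≤ 3 := by
        by_contra hk4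
        refine hab fun a ha b' hb' => ?_
        have hk4' : k = b := by omega
        have hΦ : frattini R = ⊥ := Subgroup.eq_bot_of_card_eq _ (by
          have h := (frattini R).card_eq_card_quotient_mul_card_subgroup
          rw [hk, hb, hk4'] at h
          exact (Nat.mul_eq_left (by positivity)).1 h.symm)
        have h := CfsgLib.PGroup.quotient_frattini_comm hR (QuotientGroup.mk (⟨a, ha⟩ : R))
          (QuotientGroup.mk (⟨b', hb'⟩ : R))
        rw [← QuotientGroup.mk_mul, ← QuotientGroup.mk_mul, QuotientGroup.eq, hΦ, mem_bot,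
          inv_mul_eq_one] at h
        exact congrArg Subtype.val h
      have htop : fixSubgroup U = ⊤ := by
        refine eq_top_of_card_eq _ ?_
        rw [hk, hj]
        by_contra hne'
        have hlt : j < k := lt_of_le_of_ne hjk fun h => hne' (by rw [h])
        have h := card_modEq_fixed hU ⊤ (fun _ _ => mem_top _)
        rw [card_top, top_inf_eq, hk, hj] at h
        have h' := (Nat.modEq_iff_dvd' (Nat.pow_le_pow_right (by norm_num) hjk)).1 h.symm
        rcases hℓset with hs | hs | hs | hs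
        · interval_cases ℓ <;> first | omega | (norm_num at hℓ)
        all_goals
          subst hs
          interval_cases k <;> interval_cases j <;> norm_num at h'
      have hx : U (x : R ⧸ frattini R) = x :=
        mem_fixSubgroup.1 (htop.symm ▸ mem_top _ : (x : R ⧸ frattini R) ∈ fixSubgroup U)
      rwa [hUdef, frattiniHom_mk, eq_comm, QuotientGroup.eq] at hx
    have hcR : ∀ g ∈ R, Commute c g := fun g hg => by
      have h := congrArg Subtype.val (DFunLike.congr_fun hT1 ⟨g, hg⟩)
      exact mul_inv_eq_iff_eq_mul.1 h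
    -- it has no fixed points
    have hcfix : fixSubgroup c = ⊥ := by
      refine (hinv _ fun g hg y hy => ?_).resolve_right fun h => hc1 (MulEquiv.ext fun x =>
        mem_fixSubgroup.1 (h.symm ▸ mem_top x : x ∈ fixSubgroup c))
      rw [mem_fixSubgroup] at hy ⊢
      rw [← MulAut.mul_apply, (hcR g hg).eq, MulAut.mul_apply, hy]
    have hℓ7 : ℓ = 7 := by
      have h := card_modEq_fixed hcℓ ⊤ (fun _ _ => mem_top _)
      rw [card_top, top_inf_eq, hn, hcfix, card_bot] at h
      have h' := (Nat.modEq_iff_dvd' (by norm_num)).1 h.symm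
      rcases hℓset with hs | hs | hs | hs
      · interval_cases ℓ <;> first | omega | (norm_num at hℓ)
      · subst hs; norm_num at h'
      · exact hs
      · subst hs; norm_num at h'
    obtain ⟨z, hz⟩ : ∃ z : center R, orderOf z = 3 := by
      haveI := hR.center_nontrivial
      refine exists_prime_orderOf_dvd_card' 3 ?_
      rcases (hR.to_subgroup (center R)).card_eq_or_dvd with h | h
      · exact absurd h Finite.one_lt_card.ne'
      · exact h
    set z' : MulAut E := ((z : R) : MulAut E) with hz'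
    have hzo : orderOf z' = 3 := by rw [hz', Subgroup.orderOf_coe, Subgroup.orderOf_coe, hz]
    have hz3 : z' ^ 3 = 1 := by rw [← hzo]; exact pow_orderOf_eq_one _
    have hzc : ∀ x ∈ R, Commute x z' := fun x hx =>
      congrArg Subtype.val (mem_center_iff.1 z.2 ⟨x, hx⟩)
    have hzfpf := hR3 z' (z : R).2 hz3
      (fun h => by rw [h, orderOf_one] at hzo; norm_num at hzo) hzc
    -- elements fixing a point are trivial
    have hsemi : ∀ f : R, f • v = v → f = 1 := by
      intro f hf
      set U := fixSubgroup (f : MulAut E) ⊓ fixSubgroup ((z' * (f : MulAut E)) * z'⁻¹) with hUdef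
      have hUeq : U = fixSubgroup (f : MulAut E) := by
        rw [hUdef, show z' * (f : MulAut E) * z'⁻¹ = f by rw [← (hzc f f.2).eq, mul_inv_cancel_right],
          inf_idem]
      obtain ⟨e, he⟩ := pow_two_eq (U := fixSubgroup (f : MulAut E)) h2
      have he6 : e ≤ 6 := card_le_of_subgroup hn he
      have hcomm' : ∀ (a : MulAut E), Commute a (f : MulAut E) →
          ∀ x ∈ fixSubgroup (f : MulAut E), a x ∈ fixSubgroup (f : MulAut E) := fun a ha x hx => by
        rw [mem_fixSubgroup] at hx ⊢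
        rw [← MulAut.mul_apply, ← ha.eq, MulAut.mul_apply, hx]
      have h7 := card_modEq_fixed hcℓ _ (hcomm' c (hcR f f.2))
      rw [hcfix, inf_bot_eq, card_bot, he, hℓ7] at h7
      have h3 := card_modEq_fixed hz3 _ (hcomm' z' (hzc f f.2).symm)
      rw [show fixSubgroup z' = ⊥ from (Subgroup.eq_bot_iff_forall _).2 fun x hx =>
        hzfpf x (mem_fixSubgroup.1 hx), inf_bot_eq, card_bot, he] at h3
      have hv' : v ∈ fixSubgroup (f : MulAut E) := hf
      have he0 : e ≠ 0 := fun h => hv (by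
        have := Subgroup.eq_bot_of_card_eq _ (by rw [he, h, pow_zero] :
          Nat.card (fixSubgroup (f : MulAut E)) = 1)
        rw [this, mem_bot] at hv'
        exact hv')
      have he' : e = 6 := by
        interval_cases e <;> first | omega | simp [Nat.ModEq] at h7 h3
      have htop := eq_top_of_card_eq (fixSubgroup (f : MulAut E)) (by rw [he, hn, he'])
      exact Subtype.ext (MulEquiv.ext fun x => mem_fixSubgroup.1
        (htop.symm ▸ mem_top x : x ∈ fixSubgroup (f : MulAut E)))
    -- hence `R` has order nine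
    have hcard : Nat.card (MulAction.orbit ↥R v) = Nat.card R := by
      rw [Nat.card_congr (MulAction.orbitEquivQuotientStabilizer R v),
        show MulAction.stabilizer R v = ⊥ from (Subgroup.eq_bot_iff_forall _).2 hsemi]
      exact Subgroup.index_bot
    have hle : Nat.card (MulAction.orbit ↥R v) ≤ 2 ^ 6 := by
      rw [← hn, Nat.card_coe_set_eq]
      exact Set.ncard_le_card _
    rw [hcard, hb] at hle
    have hb3 : b ≤ 3 := by
      by_contra h
      have : 3 ^ 4 ≤ 3 ^ b := Nat.pow_le_pow_right (by norm_num) (by omega)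
      omega
    have hb2 : 2 ≤ b := by
      rw [hb] at hRnine
      exact (Nat.pow_dvd_pow_iff_le_right (by norm_num)).1 (show 3 ^ 2 ∣ 3 ^ b from hRnine)
    rcases (by omega : b = 2 ∨ b = 3) with rfl | rfl
    · exact hab fun a ha a' ha' => congrArg Subtype.val
        (IsPGroup.commutative_of_card_eq_prime_sq hb (⟨a, ha⟩ : R) ⟨a', ha'⟩)
    · -- twenty-seven: the orbits under `R` and `c` are too long
      have hsemi' : ∀ g ∈ R ⊔ zpowers c, g v = v → g = 1 := by
        intro g hg hgv
        haveI := hc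
        have hnorm : R ≤ normalizer (zpowers c : Set (MulAut E)) := fun x hx => by
          rw [mem_normalizer_iff]
          intro y
          have hxc : ∀ y ∈ zpowers c, x * y * x⁻¹ = y := by
            rintro y ⟨i, rfl⟩
            rw [← ((hcR x hx).zpow_left i).eq, mul_inv_cancel_right]
          exact ⟨fun hy => by rw [hxc y hy]; exact hy, fun hy => by
            have h := hxc _ hy
            rw [mul_left_inj, mul_right_inj] at h
            rw [← h]; exact hy⟩
        rw [← SetLike.mem_coe, coe_mul_of_left_le_normalizer_right _ _ hnorm, Set.mem_mul] at hg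
        obtain ⟨r₁, hr₁, _, ⟨i, rfl⟩, rfl⟩ := hg
        replace hgv : (r₁ * c ^ i) v = v := hgv
        show r₁ * c ^ i = 1
        have hci : ((r₁ ^ 3 ^ 3) * (c ^ i) ^ 3 ^ 3) v = v := by
          rw [← (show Commute r₁ (c ^ i) from ((hcR r₁ hr₁).zpow_left i).symm).mul_pow]
          exact pow_mem (show r₁ * c ^ i ∈ MulAction.stabilizer (MulAut E) v from hgv) _
        have hr27 : r₁ ^ 3 ^ 3 = 1 := by
          rw [← hb]
          exact congrArg Subtype.val (pow_card_eq_one' (x := (⟨r₁, hr₁⟩ : R)))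
        rw [hr27, one_mul] at hci
        by_cases hci1 : c ^ i = 1
        · rw [hci1, mul_one] at hgv ⊢
          exact congrArg Subtype.val (hsemi ⟨r₁, hr₁⟩ hgv)
        exfalso
        have ho : orderOf (c ^ i) = ℓ :=
          orderOf_eq_prime (by rw [← zpow_natCast, ← zpow_mul, mul_comm, zpow_mul, zpow_natCast, hcℓ,
            one_zpow]) hci1
        have hcop : Nat.Coprime (3 ^ 3) (orderOf (c ^ i)) := by rw [ho, hℓ7]; norm_num
        obtain ⟨m, hm⟩ := exists_pow_eq_self_of_coprime hcop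
        have hfix : (c ^ i) v = v := by
          rw [← hm]
          exact pow_mem (show (c ^ i) ^ 3 ^ 3 ∈ MulAction.stabilizer (MulAut E) v from hci) m
        have hg : (c ^ i) ∈ zpowers c := ⟨i, rfl⟩
        have hzp : zpowers (c ^ i) = zpowers c :=
          eq_of_le_of_card_ge (zpowers_le.2 hg) (by rw [Nat.card_zpowers, Nat.card_zpowers, ho, hc])
        have hcv : c v = v := by
          have hle' : zpowers (c ^ i) ≤ MulAction.stabilizer (MulAut E) v := zpowers_le.2 hfix
          exact hle' (hzp.symm ▸ mem_zpowers c)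
        exact hv (mem_bot.1 (hcfix ▸ (mem_fixSubgroup.2 hcv) : v ∈ (⊥ : Subgroup E)))
      have hbig : 3 ^ 3 * 7 ∣ Nat.card ↥(R ⊔ zpowers c) :=
        Nat.Coprime.mul_dvd_of_dvd_of_dvd (by norm_num) (hb ▸ card_dvd_of_le le_sup_left)
          (by
            have h := card_dvd_of_le (le_sup_right : zpowers c ≤ R ⊔ zpowers c)
            rwa [Nat.card_zpowers, hc, hℓ7] at h)
      have hinj : Function.Injective (fun g : ↥(R ⊔ zpowers c) => (g : MulAut E) v) := by
        intro g g' e
        have e' : (g'⁻¹ * g : ↥(R ⊔ zpowers c)).1 v = v := by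
          show (g' : MulAut E)⁻¹ ((g : MulAut E) v) = v
          rw [show (g : MulAut E) v = (g' : MulAut E) v from e, ← MulAut.mul_apply, inv_mul_cancel,
            MulAut.one_apply]
        have := hsemi' _ (g'⁻¹ * g).2 e'
        exact (inv_mul_eq_one.1 (Subtype.ext this : g'⁻¹ * g = 1)).symm
      have h1 := Nat.card_le_card_of_injective _ hinj
      have h2' := Nat.le_of_dvd Nat.card_pos hbig
      rw [hn] at h1
      omega
  -- conclude
  have hfac : ∀ ℓ, (Nat.card N).factorization ℓ ≤ (2 ^ 100 * 3 ^ 100 : ℕ).factorization ℓ := by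
    intro ℓ
    by_cases hℓ : ℓ.Prime ∧ ℓ ∣ Nat.card N
    swap
    · rw [not_and] at hℓ
      by_cases hp : ℓ.Prime
      · rw [Nat.factorization_eq_zero_of_not_dvd (hℓ hp)]; exact Nat.zero_le _
      · rw [Nat.factorization_eq_zero_of_not_prime _ hp]; exact Nat.zero_le _
    have hbound : ℓ ^ (Nat.card N).factorization ℓ ≤ 20158709760 := by
      refine Nat.le_of_dvd (by norm_num) ?_
      rw [← hprod]
      exact (Nat.ordProj_dvd _ _).trans ((card_subgroup_dvd_card N).trans (card_mulAut_dvd h2 hn))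
    have hexp : (Nat.card N).factorization ℓ ≤ 100 := by
      by_contra hlt
      have := (Nat.pow_le_pow_right two_pos (le_of_lt (not_le.1 hlt))).trans
        ((Nat.pow_le_pow_left hℓ.1.two_le _).trans hbound)
      norm_num at this
    rw [Nat.factorization_mul (by positivity) (by positivity)]
    rcases hprimes ℓ hℓ.1 hℓ.2 with rfl | rfl
    · simp only [Finsupp.add_apply, Nat.Prime.factorization_pow Nat.prime_two, Finsupp.single_eq_same]
      omega
    · simp only [Finsupp.add_apply, Nat.Prime.factorization_pow Nat.prime_three, Finsupp.single_eq_same]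
      omega
  exact (Nat.factorization_le_iff_dvd Nat.card_pos.ne' (by positivity)).1 hfac

/-- A Sylow subgroup of a transitive linear group over two elements with solvable normaliser. -/
theorem exists_solvable_normalizer (h2 : ∀ v : E, v ^ 2 = 1) (M : Subgroup (MulAut E))
    (htr : ∀ v w : E, v ≠ 1 → w ≠ 1 → ∃ m ∈ M, m v = w) :
    ∃ (r : ℕ) (_ : Fact r.Prime) (R : Sylow r M), Group.IsSolvable
      ↥(normalizer (((R : Subgroup M).map M.subtype : Subgroup (MulAut E)) : Set (MulAut E))) := by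
  classical
  haveI : Fact (Nat.Prime 2) := ⟨Nat.prime_two⟩
  obtain ⟨n, hn⟩ := pow_two_eq (U := (⊤ : Subgroup E)) h2
  rw [card_top] at hn
  by_cases hn2 : n ≤ 1
  · refine ⟨2, inferInstance, default, ?_⟩
    haveI : Group.IsSolvable (MulAut E) := by
      refine isSolvable_of_card_dvd (n := ∏ i : Fin n, (2 ^ n - 2 ^ (i : ℕ))) ?_ ?_
        (card_mulAut_dvd h2 hn)
      all_goals interval_cases n <;> simp
    infer_instance
  haveI : Nontrivial E := Finite.one_lt_card_iff_nontrivial.1 (by
    rw [hn]; exact Nat.one_lt_two_pow (by omega))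
  obtain ⟨v, hv⟩ := exists_ne (1 : E)
  have horbit : ∀ w : E, w ≠ 1 → Nat.card (MulAction.orbit M w) = 2 ^ n - 1 := by
    intro w hw
    have : MulAction.orbit M w = ({1} : Set E)ᶜ := by
      ext u
      constructor
      · rintro ⟨m, rfl⟩ (h : (m : MulAut E) w = 1)
        exact hw ((map_eq_one_iff _ (m : MulAut E).injective).1 h)
      · intro hu
        obtain ⟨m, hm, e⟩ := htr w u hw hu
        exact ⟨⟨m, hm⟩, e⟩
    rw [Nat.card_coe_set_eq, this, Set.ncard_compl, Set.ncard_singleton, hn]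
  by_cases h6 : n = 6
  · subst h6
    haveI : Fact (Nat.Prime 3) := ⟨Nat.prime_three⟩
    refine ⟨3, inferInstance, default, isSolvable_normalizer_six h2 hn _
      ((default : Sylow 3 M).2.map M.subtype) fun w hw => ?_⟩
    set R : Sylow 3 M := default
    have h := pow_dvd_ncard (k := 2) R (v := w) (by rw [horbit w hw]; norm_num)
    have hset : MulAction.orbit ↥((R : Subgroup M).map M.subtype) w =
        MulAction.orbit ↥(R : Subgroup M) w := by
      ext u
      constructor
      · rintro ⟨⟨_, m, hm, rfl⟩, rfl⟩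
        exact ⟨⟨m, hm⟩, rfl⟩
      · rintro ⟨⟨m, hm⟩, rfl⟩
        exact ⟨⟨_, m, hm, rfl⟩, rfl⟩
    rw [hset]
    exact h
  obtain ⟨r, hr, hrd, hprim⟩ := exists_primitive (n := n) (by omega) h6
  haveI := Fact.mk hr
  have hr2 : r ≠ 2 := by
    rintro rfl
    have : 2 ∣ 2 ^ n := dvd_pow_self 2 (by omega)
    have := Nat.one_le_two_pow (n := n)
    omega
  set R : Sylow r M := default
  refine ⟨r, inferInstance, R, ?_⟩
  have h := pow_dvd_ncard (k := 1) R (v := v) (by rw [horbit v hv, pow_one]; exact hrd)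
  haveI : Nontrivial (R : Subgroup M) := by
    rw [nontrivial_iff_ne_bot]
    intro hbot
    rw [pow_one, Nat.card_congr (MulAction.orbitEquivQuotientStabilizer _ v)] at h
    have h1 := h.trans (card_quotient_dvd_card _)
    rw [hbot, card_bot] at h1
    exact hr.ne_one (Nat.dvd_one.1 h1)
  haveI := R.2.center_nontrivial
  obtain ⟨z, hz⟩ : ∃ z : center (R : Subgroup M), orderOf z = r := by
    refine exists_prime_orderOf_dvd_card' r ?_
    rcases (R.2.to_subgroup (center (R : Subgroup M))).card_eq_or_dvd with h' | h'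
    · exact absurd h' Finite.one_lt_card.ne'
    · exact h'
  have hzo : orderOf (((z : (R : Subgroup M)) : M) : MulAut E) = r := by
    rw [Subgroup.orderOf_coe, Subgroup.orderOf_coe, Subgroup.orderOf_coe, hz]
  refine isSolvable_normalizer_of_irr _ ⟨_, (z : (R : Subgroup M)).2, rfl⟩ ?_
    (isIrr_of_primitive h2 hn hprim hr2 (z := (((z : (R : Subgroup M)) : M) : MulAut E))
      (by
        have := pow_orderOf_eq_one (((z : (R : Subgroup M)) : M) : MulAut E)
        rwa [hzo] at this)
      (fun h => by rw [h, orderOf_one] at hzo; exact hr.ne_one hzo.symm)) hv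
  rintro _ ⟨x, hx, rfl⟩
  exact congrArg (fun y : (R : Subgroup M) => ((y : M) : MulAut E)) (mem_center_iff.1 z.2 ⟨x, hx⟩)

/-- A group normalising a transitive group and meeting it solvably is solvable. -/
theorem isSolvable_of_normalizes (h2 : ∀ v : E, v ^ 2 = 1) (M Y : Subgroup (MulAut E))
    (htr : ∀ v w : E, v ≠ 1 → w ≠ 1 → ∃ m ∈ M, m v = w)
    (hYM : Y ≤ normalizer (M : Set (MulAut E)))
    (hsol : Group.IsSolvable ↥(Y ⊓ M : Subgroup (MulAut E))) : Group.IsSolvable Y := by
  obtain ⟨r, hr, R, hN⟩ := exists_solvable_normalizer h2 M htr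
  set N := normalizer (M : Set (MulAut E)) with hNdef
  have hMN : M ≤ N := le_normalizer
  haveI hMn : (M.subgroupOf N).Normal :=
    (normal_subgroupOf_iff_le_normalizer hMN).2 le_rfl
  set T := (R : Subgroup M).map M.subtype with hT
  set K := normalizer (T : Set (MulAut E)) ⊓ N with hK
  haveI hKsol : Group.IsSolvable K := Solvable.isSolvable_of_le hN inf_le_left
  -- Frattini
  have hfr : ∀ y ∈ N, ∃ m ∈ M, m⁻¹ * y ∈ K := by
    intro y hy
    let cy : MulAut M := (M.normalizerMonoidHom ⟨y, hy⟩)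
    obtain ⟨m, hm⟩ := MulAction.exists_smul_eq M R
      (R.comapOfInjective cy.symm.toMonoidHom cy.symm.injective
        (by rw [MonoidHom.range_eq_top.2 cy.symm.surjective]; exact le_top))
    refine ⟨m, m.2, Subgroup.mem_inf.2 ⟨?_, mul_mem (inv_mem (hMN m.2)) hy⟩⟩
    have hsub : ∀ a : M, a ∈ (R : Subgroup M) ↔ m⁻¹ * (cy a) * m ∈ (R : Subgroup M) := by
      intro a
      have h1 : cy a ∈ ((m • R : Sylow r M) : Subgroup M) ↔ a ∈ (R : Subgroup M) := by
        rw [hm]
        show cy.symm (cy a) ∈ (R : Subgroup M) ↔ _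
        rw [MulEquiv.symm_apply_apply]
      rw [← h1, Sylow.coe_subgroup_smul, mem_pointwise_smul_iff_inv_smul_mem]
      simp [MulAut.smul_def, mul_assoc]
    rw [mem_normalizer_iff]
    intro a
    constructor
    · rintro ⟨b, hb, rfl⟩
      refine ⟨m⁻¹ * cy b * m, (hsub b).1 hb, ?_⟩
      show (m : MulAut E)⁻¹ * (y * b * y⁻¹) * m = _
      group
      rfl
    · rintro ⟨b, hb, hbe⟩
      refine ⟨cy.symm (m * b * m⁻¹), ?_, ?_⟩
      · refine (hsub _).2 ?_
        rw [MulEquiv.apply_symm_apply, show m⁻¹ * (m * b * m⁻¹) * m = b by group]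
        exact hb
      · show (y⁻¹ * ((m : MulAut E) * b * (m : MulAut E)⁻¹) * y⁻¹⁻¹) = a
        rw [show ((b : M) : MulAut E) = (m : MulAut E)⁻¹ * y * a * ((m : MulAut E)⁻¹ * y)⁻¹ from hbe]
        group
  let πN := QuotientGroup.mk' (M.subgroupOf N)
  have hsurj : Function.Surjective (πN.comp (Subgroup.inclusion (inf_le_right : K ≤ N))) := by
    intro q
    obtain ⟨⟨y, hy⟩, rfl⟩ := QuotientGroup.mk'_surjective (M.subgroupOf N) q
    obtain ⟨m, hm, hmy⟩ := hfr y hy
    refine ⟨⟨_, hmy⟩, QuotientGroup.eq.2 ?_⟩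
    show ((m⁻¹ * y)⁻¹ * y : MulAut E) ∈ M
    have h : y⁻¹ * m * y ∈ M := by
      have := (mem_normalizer_iff.1 (inv_mem hy) m).1 hm
      simpa using this
    simpa [mul_assoc] using h
  haveI : Group.IsSolvable (N ⧸ M.subgroupOf N) := Group.isSolvable_of_surjective hsurj
  let f : Y →* N ⧸ M.subgroupOf N := πN.comp (Subgroup.inclusion hYM)
  haveI : Group.IsSolvable f.ker := by
    refine Group.isSolvable_of_isSolvable_injective (f := ({
      toFun := fun k => ⟨((k : Y) : MulAut E), (k : Y).2, by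
        have hk : πN (Subgroup.inclusion hYM (k : Y)) = 1 := k.2
        exact mem_subgroupOf.1
          ((QuotientGroup.eq_one_iff (Subgroup.inclusion hYM (k : Y))).1 hk)⟩
      map_one' := rfl
      map_mul' := fun _ _ => rfl } : f.ker →* ↥(Y ⊓ M : Subgroup (MulAut E)))) ?_
    intro a b h
    exact Subtype.ext (Subtype.ext (congrArg Subtype.val h :))
  haveI : Group.IsSolvable (Y ⧸ f.ker) := Group.isSolvable_of_isSolvable_injective
    (QuotientGroup.kerLift_injective f)
  exact (Group.isSolvable_iff_subgroup_quotient f.ker).2 ⟨inferInstance, inferInstance⟩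

end CfsgLib.LocalEven.OutLinear
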