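import Cfsg.Agent.Lib.LocalEven.Out.SylowAut
import Cfsg.Agent.Lib.LocalEven.Out.Transitive
import Cfsg.Agent.Lib.LocalEven.Out.FixInvolutions

/-!
Conditions on a Sylow 2-subgroup under which the image of its stabiliser in its automorphism group
is solvable.
-/

set_option autoImplicit false

namespace CfsgLib.LocalEven.OutCond

open Subgroup CfsgLib.LocalEven.OutTools CfsgLib.LocalEven.SylowAut

variable {P : Type*} [Group P]

theorem isSolvable_of_ker_map {H K : Type*} [Group H] [Group K] (f : H →* K)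
    [Group.IsSolvable f.ker] [Group.IsSolvable f.range] : Group.IsSolvable H := by
  haveI : Group.IsSolvable (H ⧸ f.ker) := Group.isSolvable_of_surjective
    (f := (QuotientGroup.quotientKerEquivRange f).symm.toMonoidHom) (MulEquiv.surjective _)
  exact (Group.isSolvable_iff_subgroup_quotient f.ker).2 ⟨inferInstance, inferInstance⟩

theorem mem_normalizer_of_conj_subset [Finite P] {H : Subgroup P} {g : P}
    (h : ∀ x ∈ H, g * x * g⁻¹ ∈ H) : g ∈ normalizer (H : Set P) := by
  have hmap : H.map (MulAut.conj g).toMonoidHom = H := eq_of_le_of_card_ge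
    (by rintro _ ⟨x, hx, rfl⟩; exact h x hx)
    (card_map_of_injective (K := H) (MulAut.conj g).injective).ge
  rw [mem_normalizer_iff]
  intro x
  refine ⟨h x, fun hx => ?_⟩
  rw [← hmap] at hx
  obtain ⟨y, hy, hyx⟩ := hx
  rwa [← (MulAut.conj g).injective hyx]

theorem relIndex_dvd_index_of_normal_right [Finite P] (H K : Subgroup P) [K.Normal] :
    H.relIndex K ∣ H.index := by
  have h1 : (H ⊓ K).relIndex K * K.relIndex (H ⊔ K) = (H ⊓ K).relIndex H * H.relIndex (H ⊔ K) := by
    rw [relIndex_mul_relIndex _ _ _ inf_le_right le_sup_right,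
      relIndex_mul_relIndex _ _ _ inf_le_left le_sup_left]
  rw [inf_relIndex_right, inf_relIndex_left, relIndex_sup_right, mul_comm] at h1
  rw [Nat.eq_of_mul_eq_mul_left (Nat.pos_of_ne_zero index_ne_zero_of_finite) h1]
  exact relIndex_dvd_index_of_le le_sup_left

/-- The order of the Frattini quotient of a group generated by few elements. -/
theorem card_quotient_le [Finite P] (hP : IsPGroup 2 P) {k : ℕ} (g : Fin k → P)
    (hg : Subgroup.closure (Set.range g) = ⊤) : Nat.card (P ⧸ frattini P) ≤ 2 ^ k := by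
  classical
  haveI : Fact (Nat.Prime 2) := ⟨Nat.prime_two⟩
  letI : CommGroup (P ⧸ frattini P) :=
    { (inferInstance : Group (P ⧸ frattini P)) with
      mul_comm := CfsgLib.PGroup.quotient_frattini_comm hP }
  have h2 : ∀ x : P ⧸ frattini P, x ^ 2 = 1 := CfsgLib.PGroup.quotient_frattini_pow hP
  let f : (Fin k → Fin 2) → P ⧸ frattini P := fun e => ∏ i, (g i : P ⧸ frattini P) ^ (e i : ℕ)
  let Im : Subgroup (P ⧸ frattini P) :=
    { carrier := Set.range f
      one_mem' := ⟨fun _ => 0, by simp [f]⟩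
      mul_mem' := by
        rintro _ _ ⟨a, rfl⟩ ⟨b, rfl⟩
        refine ⟨fun i => a i + b i, ?_⟩
        simp only [f, ← Finset.prod_mul_distrib, ← pow_add]
        refine Finset.prod_congr rfl fun i _ => ?_
        rw [Fin.val_add, ← pow_eq_pow_mod _ (h2 _)]
      inv_mem' := by
        rintro _ ⟨a, rfl⟩
        refine ⟨a, (inv_eq_of_mul_eq_one_right ?_).symm⟩
        rw [← sq, h2] }
  have htop : Im = ⊤ := by
    have hle : Subgroup.closure (Set.range g) ≤ Im.comap (QuotientGroup.mk' (frattini P)) := by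
      refine (closure_le _).2 ?_
      rintro _ ⟨i, rfl⟩
      refine ⟨fun j => if j = i then 1 else 0, ?_⟩
      simp only [f]
      rw [Finset.prod_eq_single i (fun j _ hj => by simp [hj]) (fun h => absurd (Finset.mem_univ i) h)]
      simp
    refine eq_top_iff.2 fun x _ => ?_
    obtain ⟨y, rfl⟩ := QuotientGroup.mk_surjective x
    exact hle (hg ▸ mem_top y)
  have hsurj : Function.Surjective f := fun x => by
    have hx : x ∈ Im := by rw [htop]; exact mem_top x
    exact hx
  refine (Nat.card_le_card_of_surjective f hsurj).trans (le_of_eq ?_)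
  simp

theorem exists_pow [Finite P] (hP : IsPGroup 2 P) {k : ℕ}
    (h : Nat.card (P ⧸ frattini P) ≤ 2 ^ k) :
    ∃ d ≤ k, Nat.card (P ⧸ frattini P) = 2 ^ d := by
  haveI : Fact (Nat.Prime 2) := ⟨Nat.prime_two⟩
  obtain ⟨d, hd⟩ := IsPGroup.iff_card.1 (hP.to_quotient (frattini P))
  exact ⟨d, (Nat.pow_le_pow_iff_right one_lt_two).1 (hd ▸ h), hd⟩

/-- The automorphism group of a 2-generated 2-group is solvable. -/
theorem isSolvable_mulAut_two [Finite P] (hP : IsPGroup 2 P) (g : Fin 2 → P)
    (hg : Subgroup.closure (Set.range g) = ⊤) : Group.IsSolvable (MulAut P) := by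
  haveI : Fact (Nat.Prime 2) := ⟨Nat.prime_two⟩
  haveI : Finite (MulAut P) :=
    Finite.of_injective (fun φ : MulAut P => (φ : P → P)) DFunLike.coe_injective
  haveI : Finite (MulAut (P ⧸ frattini P)) :=
    Finite.of_injective (fun φ : MulAut (P ⧸ frattini P) => (φ : P ⧸ frattini P → P ⧸ frattini P))
      DFunLike.coe_injective
  obtain ⟨d, hd, hcard⟩ := exists_pow hP (card_quotient_le hP g hg)
  haveI : Group.IsNilpotent (frattiniHom P).ker := (isPGroup_ker_frattiniHom hP).isNilpotent
  haveI : Group.IsSolvable (MulAut (P ⧸ frattini P)) :=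
    isSolvable_of_card_dvd (n := 6) (by norm_num)
      (by rw [show (6 : ℕ) = 2 * 3 from rfl, Nat.primeFactors_mul (by norm_num) (by norm_num),
            Nat.prime_two.primeFactors, Nat.prime_three.primeFactors]; decide)
      ((card_mulAut_dvd (CfsgLib.PGroup.quotient_frattini_pow hP) hcard).trans (by
        interval_cases d <;> simp [Fin.prod_univ_two]))
  exact isSolvable_of_ker_map (frattiniHom P)

/-- A subgroup of automorphisms of a 3-generated 2-group having a normal subgroup of odd order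
modulo the Frattini kernel is solvable. -/
theorem isSolvable_three [Finite P] (hP : IsPGroup 2 P) (g : Fin 3 → P)
    (hg : Subgroup.closure (Set.range g) = ⊤) (X I : Subgroup (MulAut P)) (hIX : I ≤ X)
    (hXI : X ≤ normalizer (I : Set (MulAut P))) (hodd : Odd (Nat.card (I.map (frattiniHom P))))
    (hne : I.map (frattiniHom P) ≠ ⊥) : Group.IsSolvable X := by
  haveI : Fact (Nat.Prime 2) := ⟨Nat.prime_two⟩
  haveI : Finite (MulAut P) :=
    Finite.of_injective (fun φ : MulAut P => (φ : P → P)) DFunLike.coe_injective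
  haveI : Finite (MulAut (P ⧸ frattini P)) :=
    Finite.of_injective (fun φ : MulAut (P ⧸ frattini P) => (φ : P ⧸ frattini P → P ⧸ frattini P))
      DFunLike.coe_injective
  obtain ⟨d, hd, hcard⟩ := exists_pow hP (card_quotient_le hP g hg)
  haveI : Group.IsNilpotent (frattiniHom P).ker := (isPGroup_ker_frattiniHom hP).isNilpotent
  set Y := X.map (frattiniHom P) with hY
  set F := I.map (frattiniHom P) with hF
  have hFY : F ≤ Y := map_mono hIX
  haveI hn : (F.subgroupOf Y).Normal := by
    refine (normal_subgroupOf_iff_le_normalizer hFY).2 ?_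
    exact (map_mono hXI).trans (le_normalizer_map _)
  have h168 : Nat.card Y ∣ 168 :=
    ((card_subgroup_dvd_card Y).trans
      (card_mulAut_dvd (CfsgLib.PGroup.quotient_frattini_pow hP) hcard)).trans (by
        interval_cases d <;> simp [Fin.prod_univ_two, Fin.prod_univ_three])
  have hFcard : Nat.card (F.subgroupOf Y) = Nat.card F :=
    Nat.card_congr (subgroupOfEquivOfLe hFY).toEquiv
  haveI : Group.IsSolvable (F.subgroupOf Y) := Cfsg.Agent.S0205.result (hFcard.symm ▸ hodd)
  have hmul := (F.subgroupOf Y).card_mul_index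
  rw [hFcard] at hmul
  haveI : Group.IsSolvable (Y ⧸ F.subgroupOf Y) := by
    have hdvd : Nat.card F * (F.subgroupOf Y).index ∣ 168 := hmul.symm ▸ h168
    have hF1 : Nat.card F ≠ 1 := fun h => hne (eq_bot_of_card_eq _ h)
    have hF168 : Nat.card F ∣ 168 := (dvd_mul_right _ _).trans hdvd
    obtain ⟨k, hk⟩ := hodd
    have hFle : Nat.card F ≤ 168 := Nat.le_of_dvd (by norm_num) hF168
    have hcases : Nat.card F = 3 ∨ Nat.card F = 7 ∨ Nat.card F = 21 := by
      have hmem : Nat.card F ∈ Nat.divisors 168 := Nat.mem_divisors.2 ⟨hF168, by norm_num⟩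
      have : Nat.divisors 168 = ({1, 2, 3, 4, 6, 7, 8, 12, 14, 21, 24, 28, 42, 56, 84, 168} : Finset ℕ) :=
        by decide
      rw [this] at hmem
      simp only [Finset.mem_insert, Finset.mem_singleton] at hmem
      omega
    have hq : Nat.card (Y ⧸ F.subgroupOf Y) = (F.subgroupOf Y).index := rfl
    rcases hcases with h | h | h <;> rw [h] at hdvd
    · exact isSolvable_of_card_dvd (n := 2 ^ 3 * 7) (by norm_num)
        (by rw [Nat.primeFactors_mul (by norm_num) (by norm_num),
              Nat.primeFactors_prime_pow (by norm_num) Nat.prime_two,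
              (by norm_num : Nat.Prime 7).primeFactors]; decide)
        (hq ▸ Nat.dvd_of_mul_dvd_mul_left (by norm_num : 0 < 3)
          (hdvd.trans (by norm_num : 168 ∣ 3 * (2 ^ 3 * 7))))
    · exact isSolvable_of_card_dvd (n := 2 ^ 3 * 3) (by norm_num)
        (by rw [Nat.primeFactors_mul (by norm_num) (by norm_num),
              Nat.primeFactors_prime_pow (by norm_num) Nat.prime_two,
              Nat.prime_three.primeFactors]; decide)
        (hq ▸ Nat.dvd_of_mul_dvd_mul_left (by norm_num : 0 < 7)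
          (hdvd.trans (by norm_num : 168 ∣ 7 * (2 ^ 3 * 3))))
    · exact isSolvable_of_card_dvd (n := 2 ^ 3) (by norm_num)
        (by rw [Nat.primeFactors_prime_pow (by norm_num) Nat.prime_two]; decide)
        (hq ▸ Nat.dvd_of_mul_dvd_mul_left (by norm_num : 0 < 21)
          (hdvd.trans (by norm_num : 168 ∣ 21 * 2 ^ 3)))
  haveI : Group.IsSolvable Y := (Group.isSolvable_iff_subgroup_quotient (F.subgroupOf Y)).2
    ⟨inferInstance, inferInstance⟩
  let f : X →* MulAut (P ⧸ frattini P) := (frattiniHom P).comp X.subtype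
  haveI : Group.IsSolvable f.range := by
    have : f.range = Y := by
      ext y
      constructor
      · rintro ⟨x, rfl⟩; exact mem_map_of_mem _ x.2
      · rintro ⟨x, hx, rfl⟩; exact ⟨⟨x, hx⟩, rfl⟩
    rw [this]; infer_instance
  haveI : Group.IsSolvable f.ker := by
    refine Group.isSolvable_of_isSolvable_injective (f := ({
      toFun := fun k => ⟨((k : X) : MulAut P), k.2⟩
      map_one' := rfl
      map_mul' := fun _ _ => rfl } : f.ker →* (frattiniHom P).ker)) ?_
    intro a b h
    exact Subtype.ext (Subtype.ext (congrArg Subtype.val h :))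
  exact isSolvable_of_ker_map f

/-! ### One class of commuting involutions -/

universe u

variable {G : Type u} [Group G] [Finite G]

/-- The conjugation action of the normaliser, inside the stabiliser. -/
theorem conj_mem_stab {S : Subgroup G} {n : G} (hn : n ∈ normalizer (S : Set G)) :
    MulAut.conj n ∈ stab S := fun g => (mem_normalizer_iff.1 hn g).symm

/-- The image of the normaliser in the automorphisms of the Sylow subgroup is normal in the image of
the stabiliser. -/
theorem range_le_normalizer (S : Subgroup G) :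
    (restr S).range ≤ normalizer (((restr S).comp (((MulAut.conj : G →* MulAut G).comp
      (normalizer (S : Set G)).subtype).codRestrict (stab S) fun n => conj_mem_stab n.2)).range :
      Set (MulAut ↥S)) := by
  refine CfsgLib.Solvable.le_normalizer_of_conj_mem ?_
  rintro _ ⟨φ, rfl⟩ _ ⟨n, rfl⟩
  have hn : (φ : MulAut G) n ∈ normalizer (S : Set G) := by
    rw [mem_normalizer_iff]
    intro g
    rw [← (φ : MulAut G).apply_symm_apply g, ← map_inv, ← map_mul, ← map_mul, φ.2, φ.2]
    exact mem_normalizer_iff.1 n.2 _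
  refine ⟨⟨_, hn⟩, ?_⟩
  simp only [MonoidHom.comp_apply]
  rw [← map_inv, ← map_mul, ← map_mul]
  refine congrArg (restr S) (Subtype.ext (MulEquiv.ext fun g => ?_))
  show (φ : MulAut G) n * g * ((φ : MulAut G) n)⁻¹ =
    (φ : MulAut G) ((n : G) * (φ : MulAut G).symm g * (n : G)⁻¹)
  rw [map_mul, map_mul, map_inv, MulEquiv.apply_symm_apply]

set_option maxHeartbeats 1000000 in
/-- Commuting fused involutions: the stabiliser acts solvably. -/
theorem isSolvable_restr_range (S : Sylow 2 G)
    (hcomm : ∀ s ∈ S, ∀ t ∈ S, orderOf s = 2 → orderOf t = 2 → s * t = t * s)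
    (hconj : ∀ s ∈ S, ∀ t ∈ S, orderOf s = 2 → orderOf t = 2 → ∃ g : G, g * s * g⁻¹ = t) :
    Group.IsSolvable (restr (S : Subgroup G)).range := by
  classical
  haveI : Fact (Nat.Prime 2) := ⟨Nat.prime_two⟩
  haveI : Finite (MulAut G) :=
    Finite.of_injective (fun φ : MulAut G => (φ : G → G)) DFunLike.coe_injective
  have hord : ∀ x : G, x ^ 2 = 1 → x ≠ 1 → orderOf x = 2 := fun x h h1 => orderOf_eq_prime h h1
  have hcomm' : ∀ x ∈ (S : Subgroup G), ∀ y ∈ (S : Subgroup G), x ^ 2 = 1 → y ^ 2 = 1 →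
      x * y = y * x := by
    intro x hx y hy hx2 hy2
    by_cases hx1 : x = 1
    · rw [hx1, one_mul, mul_one]
    by_cases hy1 : y = 1
    · rw [hy1, one_mul, mul_one]
    exact hcomm x hx y hy (hord x hx2 hx1) (hord y hy2 hy1)
  let E : Subgroup G :=
    { carrier := {x | x ∈ (S : Subgroup G) ∧ x ^ 2 = 1}
      one_mem' := ⟨one_mem _, one_pow 2⟩
      mul_mem' := fun {x y} hx hy => ⟨mul_mem hx.1 hy.1, by
        rw [(show Commute x y from hcomm' x hx.1 y hy.1 hx.2 hy.2).mul_pow, hx.2, hy.2, one_mul]⟩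
      inv_mem' := fun {x} hx => ⟨inv_mem hx.1, by rw [inv_pow, hx.2, inv_one]⟩ }
  have hES : E ≤ S := fun x hx => hx.1
  letI : CommGroup E :=
    { (inferInstance : Group E) with
      mul_comm := fun x y => Subtype.ext (hcomm' _ x.2.1 _ y.2.1 x.2.2 y.2.2) }
  have h2E : ∀ v : E, v ^ 2 = 1 := fun v => Subtype.ext (by simpa using v.2.2)
  -- fusion in `E` is controlled by its normaliser
  have hfuse : ∀ x ∈ E, ∀ y ∈ E, x ≠ 1 → y ≠ 1 →
      ∃ n ∈ normalizer (E : Set G), n * x * n⁻¹ = y := by
    intro x hx y hy hx1 hy1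
    obtain ⟨g, hg⟩ := hconj x hx.1 y hy.1 (hord x hx.2 hx1) (hord y hy.2 hy1)
    set E' := E.map (MulAut.conj g).toMonoidHom with hE'
    have hE'C : E' ≤ centralizer {y} := by
      rintro _ ⟨e, he, rfl⟩
      rw [mem_centralizer_singleton_iff, ← hg]
      show g * e * g⁻¹ * (g * x * g⁻¹) = g * x * g⁻¹ * (g * e * g⁻¹)
      have := hcomm' e he.1 x hx.1 he.2 hx.2
      calc g * e * g⁻¹ * (g * x * g⁻¹) = g * (e * x) * g⁻¹ := by group
        _ = g * x * g⁻¹ * (g * e * g⁻¹) := by rw [this]; group
    have hEC : E ≤ centralizer {y} := fun e he => mem_centralizer_singleton_iff.2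
      (hcomm' e he.1 y hy.1 he.2 hy.2)
    have hE2 : IsPGroup 2 E := S.2.to_le hES
    obtain ⟨T, hT⟩ := (hE2.of_equiv (subgroupOfEquivOfLe hEC).symm).exists_le_sylow
    obtain ⟨T', hT'⟩ := ((hE2.map (MulAut.conj g).toMonoidHom).of_equiv
      (subgroupOfEquivOfLe hE'C).symm).exists_le_sylow
    obtain ⟨c, hc⟩ := MulAction.exists_smul_eq (centralizer ({y} : Set G)) T' T
    set TG := (T : Subgroup ↥(centralizer ({y} : Set G))).map (centralizer ({y} : Set G)).subtype
      with hTG
    obtain ⟨P, hP⟩ := (T.2.map (centralizer ({y} : Set G)).subtype).exists_le_sylow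
    obtain ⟨h, hh⟩ := MulAction.exists_smul_eq G P S
    have hinP : ∀ e ∈ E, (c : G) * (g * e * g⁻¹) * (c : G)⁻¹ ∈ (P : Subgroup G) ∧
        e ∈ (P : Subgroup G) := by
      intro e he
      refine ⟨hP ⟨c * ⟨g * e * g⁻¹, hE'C ⟨e, he, rfl⟩⟩ * c⁻¹, ?_, rfl⟩, hP ⟨⟨e, hEC he⟩, hT he, rfl⟩⟩
      have h0 : (⟨g * e * g⁻¹, hE'C ⟨e, he, rfl⟩⟩ : centralizer ({y} : Set G)) ∈
          (T' : Subgroup ↥(centralizer ({y} : Set G))) := hT' ⟨e, he, rfl⟩
      rw [← hc]
      exact Subgroup.smul_mem_pointwise_smul _ (MulAut.conj c)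
        (T' : Subgroup ↥(centralizer ({y} : Set G))) h0
    have hPS : ∀ a ∈ (P : Subgroup G), a ^ 2 = 1 → h * a * h⁻¹ ∈ E := fun a ha ha2 => ⟨by
      rw [← hh]
      exact Subgroup.smul_mem_pointwise_smul a (MulAut.conj h) (P : Subgroup G) ha, by
      rw [conj_pow, ha2, mul_one, mul_inv_cancel]⟩
    -- both images are all of `E`
    have heq : ∀ f : E → E, Function.Injective f → ∀ t : E, ∃ e, f e = t := fun f hf =>
      Finite.injective_iff_surjective.1 hf
    have hmem : (c : G) * g ∈ normalizer (E : Set G) := by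
      let f₁ : E → E := fun e => ⟨h * (e : G) * h⁻¹, hPS _ (hinP e e.2).2 e.2.2⟩
      have hf₁ : Function.Injective f₁ := fun a b hab => Subtype.ext
        ((MulAut.conj h).injective (congrArg Subtype.val hab))
      refine mem_normalizer_of_conj_subset fun e he => ?_
      have h1 := hinP e he
      have h2 : ((c : G) * (g * e * g⁻¹) * (c : G)⁻¹) ^ 2 = 1 := by
        rw [conj_pow, conj_pow, he.2, mul_one, mul_inv_cancel, mul_one, mul_inv_cancel]
      obtain ⟨e', he'⟩ := heq f₁ hf₁ ⟨_, hPS _ h1.1 h2⟩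
      have he'' : (e' : G) = (c : G) * (g * e * g⁻¹) * (c : G)⁻¹ :=
        (MulAut.conj h).injective (congrArg Subtype.val he')
      rw [show (c : G) * g * e * ((c : G) * g)⁻¹ = (c : G) * (g * e * g⁻¹) * (c : G)⁻¹ by group,
        ← he'']
      exact e'.2
    refine ⟨_, hmem, ?_⟩
    rw [show (c : G) * g * x * ((c : G) * g)⁻¹ = (c : G) * (g * x * g⁻¹) * (c : G)⁻¹ by group, hg,
      mem_centralizer_singleton_iff.1 c.2, mul_inv_cancel_right]
  -- restriction to `E`
  have hstE : stab (S : Subgroup G) ≤ stab E := fun φ hφ g =>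
    ⟨fun h => ⟨(hφ g).1 h.1, φ.injective (by rw [map_pow, h.2, map_one])⟩,
      fun h => ⟨(hφ g).2 h.1, by rw [← map_pow, h.2, map_one]⟩⟩
  let ρE : ↥(stab (S : Subgroup G)) →* MulAut E := (restr E).comp (Subgroup.inclusion hstE)
  let μ : ↥(normalizer (E : Set G)) →* MulAut E := E.normalizerMonoidHom
  have hSN : (S : Subgroup G) ≤ normalizer (E : Set G) :=
    CfsgLib.Solvable.le_normalizer_of_conj_mem fun s hs e he =>
      ⟨mul_mem (mul_mem hs he.1) (inv_mem hs), by rw [conj_pow, he.2, mul_one, mul_inv_cancel]⟩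
  haveI : Finite (MulAut E) :=
    Finite.of_injective (fun φ : MulAut E => (φ : E → E)) DFunLike.coe_injective
  haveI hY : Group.IsSolvable ρE.range := by
    refine OutLinear.isSolvable_of_normalizes h2E μ.range ρE.range ?_ ?_ ?_
    · intro v w hv hw
      obtain ⟨n, hn, hnv⟩ := hfuse v v.2 w w.2 (fun h => hv (Subtype.ext h))
        (fun h => hw (Subtype.ext h))
      exact ⟨μ ⟨n, hn⟩, ⟨_, rfl⟩, Subtype.ext hnv⟩
    · refine CfsgLib.Solvable.le_normalizer_of_conj_mem ?_
      rintro _ ⟨φ, rfl⟩ _ ⟨n, rfl⟩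
      have hn : (φ : MulAut G) n ∈ normalizer (E : Set G) := by
        rw [mem_normalizer_iff]
        intro g
        rw [← (φ : MulAut G).apply_symm_apply g, ← map_inv, ← map_mul, ← map_mul, hstE φ.2, hstE φ.2]
        exact mem_normalizer_iff.1 n.2 _
      refine ⟨⟨_, hn⟩, MulEquiv.ext fun e => Subtype.ext ?_⟩
      show (φ : MulAut G) n * e * ((φ : MulAut G) n)⁻¹ =
        (φ : MulAut G) ((n : G) * (φ : MulAut G).symm e * (n : G)⁻¹)
      rw [map_mul, map_mul, map_inv, MulEquiv.apply_symm_apply]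
    · -- inside the normaliser of a Sylow subgroup
      set PS := ((S : Subgroup G).subgroupOf (normalizer (E : Set G))).map μ with hPS
      have hle : ρE.range ⊓ μ.range ≤ normalizer (PS : Set (MulAut E)) := by
        refine CfsgLib.Solvable.le_normalizer_of_conj_mem ?_
        rintro _ ⟨⟨φ, rfl⟩, -⟩ _ ⟨n, hn, rfl⟩
        have hn' : (φ : MulAut G) (n : G) ∈ (S : Subgroup G) := (φ.2 _).2 hn
        refine ⟨⟨_, hSN hn'⟩, hn', MulEquiv.ext fun e => Subtype.ext ?_⟩
        show (φ : MulAut G) n * e * ((φ : MulAut G) n)⁻¹ =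
          (φ : MulAut G) ((n : G) * (φ : MulAut G).symm e * (n : G)⁻¹)
        rw [map_mul, map_mul, map_inv, MulEquiv.apply_symm_apply]
      set Z := ρE.range ⊓ μ.range with hZ
      set Z' := Z ⊔ PS with hZ'
      have hPSle : PS ≤ μ.range := map_le_range μ _
      have hZ'le : Z' ≤ μ.range := sup_le inf_le_right hPSle
      haveI : (PS.subgroupOf Z').Normal :=
        (normal_subgroupOf_iff_le_normalizer le_sup_right).2 (sup_le hle le_normalizer)
      haveI : Group.IsSolvable (PS.subgroupOf Z') := by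
        haveI : Group.IsNilpotent PS :=
          ((S.2.of_equiv (subgroupOfEquivOfLe hSN).symm).map μ).isNilpotent
        exact Group.isSolvable_of_surjective
          (f := (subgroupOfEquivOfLe (le_sup_right : PS ≤ Z')).symm.toMonoidHom) (MulEquiv.surjective _)
      haveI : Group.IsSolvable (Z' ⧸ PS.subgroupOf Z') := by
        refine Cfsg.Agent.S0205.result (Nat.not_even_iff_odd.1 fun he => ?_)
        have h1 : PS.relIndex Z' ∣ PS.relIndex μ.range :=
          Dvd.intro _ (relIndex_mul_relIndex PS Z' μ.range le_sup_right hZ'le)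
        have h2 : PS.relIndex μ.range ∣
            ((S : Subgroup G).subgroupOf (normalizer (E : Set G))).index := by
          rw [MonoidHom.range_eq_map, hPS, relIndex_map_map, top_sup_eq, relIndex_top_right]
          exact index_dvd_of_le le_sup_left
        have h3 : ((S : Subgroup G).subgroupOf (normalizer (E : Set G))).index ∣
            (S : Subgroup G).index := relIndex_dvd_index_of_le hSN
        exact S.not_dvd_index ((even_iff_two_dvd.1 he).trans (h1.trans (h2.trans h3)))
      haveI : Group.IsSolvable Z' := (Group.isSolvable_iff_subgroup_quotient (PS.subgroupOf Z')).2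
        ⟨inferInstance, inferInstance⟩
      exact Solvable.isSolvable_of_le inferInstance (le_sup_left : Z ≤ Z')
  -- the centraliser of `E` in `S`
  let R : Subgroup ↥(S : Subgroup G) :=
    (centralizer (E : Set G)).subgroupOf (S : Subgroup G)
  have hRmem : ∀ x : ↥(S : Subgroup G), x ∈ R ↔ ∀ e ∈ E, e * (x : G) = (x : G) * e := fun x =>
    mem_centralizer_iff
  haveI hRc : R.Characteristic := characteristic_iff_map_le.2 fun φ => by
    rintro _ ⟨x, hx, rfl⟩
    refine (hRmem _).2 fun e he => ?_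
    have he' : ((φ.symm ⟨e, he.1⟩ : ↥(S : Subgroup G)) : G) ∈ E := ⟨SetLike.coe_mem _, by
      have h : (φ.symm ⟨e, he.1⟩) ^ 2 = 1 := by
        rw [← map_pow, show (⟨e, he.1⟩ : ↥(S : Subgroup G)) ^ 2 = 1 from Subtype.ext he.2, map_one]
      exact congrArg Subtype.val h⟩
    have h := congrArg φ (Subtype.ext ((hRmem x).1 hx _ he') :
      φ.symm ⟨e, he.1⟩ * x = x * φ.symm ⟨e, he.1⟩)
    rw [map_mul, map_mul, MulEquiv.apply_symm_apply] at h
    exact congrArg Subtype.val h
  have hR2 : IsPGroup 2 R := S.2.to_subgroup R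
  -- automorphisms of `R` fusing involutions
  have hinvE : ∀ x : R, x ^ 2 = 1 → ((x : ↥(S : Subgroup G)) : G) ∈ E := fun x hx =>
    ⟨SetLike.coe_mem _, congrArg (fun a : R => ((a : ↥(S : Subgroup G)) : G)) hx⟩
  have hcentR : ∀ x : R, x ^ 2 = 1 → x ∈ center R := fun x hx => mem_center_iff.2 fun r =>
    Subtype.ext (Subtype.ext ((hRmem _).1 r.2 _ (hinvE x hx)).symm)
  set RG := R.map (S : Subgroup G).subtype with hRG
  have hRGC : RG ≤ centralizer (E : Set G) := by
    rintro _ ⟨x, hx, rfl⟩
    exact mem_centralizer_iff.2 ((hRmem x).1 hx)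
  have htransR : ∀ x y : R, x ≠ 1 → x ^ 2 = 1 → y ≠ 1 → y ^ 2 = 1 →
      ∃ φ : MulAut R, φ x = y := by
    intro x y hx1 hx2 hy1 hy2
    obtain ⟨n, hn, hnxy⟩ := hfuse _ (hinvE x hx2) _ (hinvE y hy2)
      (fun h => hx1 (Subtype.ext (Subtype.ext h))) (fun h => hy1 (Subtype.ext (Subtype.ext h)))
    -- `R` is a Sylow subgroup of the centraliser of `E`
    set CE := centralizer (E : Set G) with hCE
    have hCEn : CE ≤ normalizer (E : Set G) := fun c hc => by
      refine mem_normalizer_of_conj_subset fun e he => ?_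
      rw [← mem_centralizer_iff.1 hc e he, mul_inv_cancel_right]
      exact he
    haveI hCEnormal : (CE.subgroupOf (normalizer (E : Set G))).Normal := by
      refine (normal_subgroupOf_iff_le_normalizer hCEn).2 ?_
      refine CfsgLib.Solvable.le_normalizer_of_conj_mem fun a ha c hc => mem_centralizer_iff.2 fun e he => ?_
      have he' : a⁻¹ * e * a ∈ E := by
        have := (mem_normalizer_iff.1 (inv_mem ha) e).1 he
        simpa using this
      have h := mem_centralizer_iff.1 hc _ he'
      calc e * (a * c * a⁻¹) = a * (a⁻¹ * e * a * c) * a⁻¹ := by group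
        _ = a * c * a⁻¹ * e := by rw [h]; group
    have hidx : ¬ 2 ∣ RG.relIndex CE := by
      intro hd
      have h1 : RG.relIndex CE = (S : Subgroup G).relIndex CE := by
        rw [hRG, Subgroup.subgroupOf_map_subtype, inf_relIndex_left]
      have h2 : (S : Subgroup G).relIndex CE ∣ (S : Subgroup G).relIndex (normalizer (E : Set G)) := by
        rw [← relIndex_subgroupOf hCEn]
        exact relIndex_dvd_index_of_normal_right
          ((S : Subgroup G).subgroupOf (normalizer (E : Set G))) (CE.subgroupOf (normalizer (E : Set G)))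
      exact S.not_dvd_index ((h1 ▸ hd).trans (h2.trans (relIndex_dvd_index_of_le hSN)))
    let RS : Sylow 2 CE := ((S.2.to_subgroup R).map (S : Subgroup G).subtype).of_equiv
      (subgroupOfEquivOfLe hRGC).symm |>.toSylow hidx
    have hconjR : ∃ c ∈ CE, RG.map (MulAut.conj (c * n)).toMonoidHom = RG := by
      have hle : RG.map (MulAut.conj n).toMonoidHom ≤ CE := by
        rintro _ ⟨a, ha, rfl⟩
        exact ((normal_subgroupOf_iff_le_normalizer hCEn).1 hCEnormal hn a).1 (hRGC ha)
      obtain ⟨Q, hQ⟩ := ((hR2.map (S : Subgroup G).subtype).map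
        (MulAut.conj n).toMonoidHom).of_equiv (subgroupOfEquivOfLe hle).symm |>.exists_le_sylow
      obtain ⟨c, hc⟩ := MulAction.exists_smul_eq CE Q RS
      refine ⟨c, c.2, eq_of_le_of_card_ge ?_ ?_⟩
      · rintro _ ⟨a, ha, rfl⟩
        have h1 : c * ⟨n * a * n⁻¹, hle ⟨a, ha, rfl⟩⟩ * c⁻¹ ∈ (RS : Subgroup CE) := by
          rw [← hc]
          exact Subgroup.smul_mem_pointwise_smul _ (MulAut.conj c) (Q : Subgroup CE) (hQ ⟨a, ha, rfl⟩)
        have h2 : (c : G) * (n * a * n⁻¹) * (c : G)⁻¹ ∈ RG := h1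
        show (c : G) * n * a * ((c : G) * n)⁻¹ ∈ RG
        rwa [show (c : G) * n * a * ((c : G) * n)⁻¹ = (c : G) * (n * a * n⁻¹) * (c : G)⁻¹ by group]
      · exact (card_map_of_injective (K := RG) (MulAut.conj ((c : G) * n)).injective).ge
    obtain ⟨c, hc, hmap⟩ := hconjR
    have hcn : c * n ∈ normalizer (RG : Set G) := by
      refine mem_normalizer_of_conj_subset fun a ha => ?_
      rw [← hmap]
      exact ⟨a, ha, rfl⟩
    let eR : R ≃* RG := R.equivMapOfInjective _ (Subgroup.subtype_injective _)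
    refine ⟨(eR.trans (RG.normalizerMonoidHom ⟨_, hcn⟩)).trans eR.symm, eR.injective (Subtype.ext ?_)⟩
    rw [MulEquiv.trans_apply, MulEquiv.apply_symm_apply]
    show c * n * ((x : ↥(S : Subgroup G)) : G) * (c * n)⁻¹ = ((y : ↥(S : Subgroup G)) : G)
    rw [show c * n * ((x : ↥(S : Subgroup G)) : G) * (c * n)⁻¹ =
      c * (n * ((x : ↥(S : Subgroup G)) : G) * n⁻¹) * c⁻¹ by group, hnxy,
      ← mem_centralizer_iff.1 hc _ (hinvE y hy2), mul_inv_cancel_right]
  -- assemble
  let η : MulAut ↥(S : Subgroup G) →* MulAut R := MonoidHom.mk'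
    (fun φ =>
      { toFun := fun x => ⟨φ (x : ↥(S : Subgroup G)),
          (characteristic_iff_map_eq.1 hRc φ).le ⟨x, x.2, rfl⟩⟩
        invFun := fun x => ⟨φ.symm (x : ↥(S : Subgroup G)),
          (characteristic_iff_map_eq.1 hRc φ.symm).le ⟨x, x.2, rfl⟩⟩
        left_inv := fun x => Subtype.ext (φ.symm_apply_apply _)
        right_inv := fun x => Subtype.ext (φ.apply_symm_apply _)
        map_mul' := fun x y => Subtype.ext (map_mul φ _ _) })
    (fun φ ψ => MulEquiv.ext fun x => rfl)
  set X := (restr (S : Subgroup G)).range with hX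
  haveI : Finite (MulAut ↥(S : Subgroup G)) :=
    Finite.of_injective (fun φ : MulAut ↥(S : Subgroup G) => (φ : ↥(S : Subgroup G) → ↥(S : Subgroup G)))
      DFunLike.coe_injective
  let ES : Subgroup ↥(S : Subgroup G) := E.subgroupOf (S : Subgroup G)
  let K : Subgroup (MulAut ↥(S : Subgroup G)) :=
    { carrier := {φ | φ ∈ X ∧ ∀ e ∈ ES, φ e = e}
      one_mem' := ⟨one_mem _, fun e _ => rfl⟩
      mul_mem' := fun {a b} ha hb => ⟨mul_mem ha.1 hb.1, fun e he => by
        rw [MulAut.mul_apply, hb.2 e he, ha.2 e he]⟩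
      inv_mem' := fun {a} ha => ⟨inv_mem ha.1, fun e he => by
        conv_lhs => rw [← ha.2 e he]
        exact a.symm_apply_apply e⟩ }
  haveI hKsol : Group.IsSolvable K := by
    let f : K →* MulAut R := η.comp K.subtype
    haveI : Group.IsSolvable f.range := OutFix.isSolvable_fix_involutions hR2 hcentR htransR _ (by
      rintro _ ⟨k, rfl⟩ x hx
      exact Subtype.ext (k.2.2 _ (mem_subgroupOf.2 (hinvE x hx))))
    haveI : Group.IsSolvable f.ker := by
      haveI : Fact (Nat.Prime 2) := ⟨Nat.prime_two⟩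
      have h2 : IsPGroup 2 f.ker := isPGroup_of_prime_elements fun ℓ hℓ hℓ2 g hg => by
        set φ : MulAut ↥(S : Subgroup G) := ((g : K) : MulAut ↥(S : Subgroup G)) with hφ
        have hφℓ : φ ^ ℓ = 1 := congrArg (fun a : f.ker => ((a : K) : MulAut ↥(S : Subgroup G))) hg
        have hfixR : ∀ r ∈ R, φ r = r := fun r hr =>
          (congrArg Subtype.val (DFunLike.congr_fun (MonoidHom.mem_ker.1 g.2) (⟨r, hr⟩ : R)) :)
        refine Subtype.ext (Subtype.ext (MulEquiv.ext fun x => ?_))
        show φ x = x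
        set q := x⁻¹ * φ x with hq
        have hqR : q ∈ R := by
          refine (hRmem q).2 fun e he => ?_
          have hecent : e ∈ centralizer (E : Set G) :=
            mem_centralizer_iff.2 fun e' he' => hcomm' e' he'.1 e he.1 he'.2 he.2
          have hxeR : x * ⟨e, he.1⟩ * x⁻¹ ∈ R :=
            (inferInstance : R.Normal).conj_mem _ (show (⟨e, he.1⟩ : ↥(S : Subgroup G)) ∈ R from
              mem_subgroupOf.2 hecent) x
          have e3 := hfixR _ hxeR
          rw [map_mul, map_mul, map_inv,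
            hfixR ⟨e, he.1⟩ (mem_subgroupOf.2 hecent)] at e3
          have e4 : (⟨e, he.1⟩ : ↥(S : Subgroup G)) * q = q * ⟨e, he.1⟩ := by
            calc (⟨e, he.1⟩ : ↥(S : Subgroup G)) * (x⁻¹ * φ x)
                = x⁻¹ * (x * ⟨e, he.1⟩ * x⁻¹) * φ x := by group
              _ = x⁻¹ * (φ x * ⟨e, he.1⟩ * (φ x)⁻¹) * φ x := by rw [← e3]
              _ = x⁻¹ * φ x * ⟨e, he.1⟩ := by group
          exact congrArg Subtype.val e4
        have hpow : ∀ i : ℕ, (φ ^ i) x = x * q ^ i := by
          intro i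
          induction i with
          | zero => simp
          | succ i ih =>
            rw [pow_succ', MulAut.mul_apply, ih, map_mul, map_pow, hfixR q hqR, pow_succ', ← mul_assoc,
              hq, mul_inv_cancel_left]
        have h1 := hpow ℓ
        rw [hφℓ, MulAut.one_apply] at h1
        obtain ⟨j, hj⟩ := S.2 q
        have hj' : q ^ 2 ^ j = 1 := hj
        have h3 := CfsgLib.PGroup.OneClass.eq_one_of_pow_odd_of_two (hℓ.odd_of_ne_two hℓ2)
          (left_eq_mul.1 h1) hj'
        rw [hq, inv_mul_eq_one] at h3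
        exact h3.symm
      haveI : Group.IsNilpotent f.ker := h2.isNilpotent
      infer_instance
    exact isSolvable_of_ker_map f
  let ε : MulAut ↥(S : Subgroup G) → (E →* E) := fun φ =>
    { toFun := fun e => ⟨((φ ⟨e, e.2.1⟩ : ↥(S : Subgroup G)) : G), SetLike.coe_mem _, by
        have h : (φ ⟨e, e.2.1⟩) ^ 2 = 1 := by
          rw [← map_pow, show (⟨e, e.2.1⟩ : ↥(S : Subgroup G)) ^ 2 = 1 from Subtype.ext e.2.2, map_one]
        exact congrArg Subtype.val h⟩
      map_one' := Subtype.ext (congrArg Subtype.val (map_one φ) :)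
      map_mul' := fun a b => Subtype.ext (congrArg Subtype.val
        (map_mul φ ⟨a, a.2.1⟩ ⟨b, b.2.1⟩) :) }
  let θ : X →* MulAut E := MonoidHom.mk'
    (fun φ =>
      { toFun := ε φ
        invFun := ε (φ : MulAut ↥(S : Subgroup G)).symm
        left_inv := fun e => Subtype.ext (congrArg Subtype.val
          ((φ : MulAut ↥(S : Subgroup G)).symm_apply_apply ⟨e, e.2.1⟩) :)
        right_inv := fun e => Subtype.ext (congrArg Subtype.val
          ((φ : MulAut ↥(S : Subgroup G)).apply_symm_apply ⟨e, e.2.1⟩) :)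
        map_mul' := (ε φ).map_mul })
    (fun φ ψ => MulEquiv.ext fun e => rfl)
  haveI : Group.IsSolvable θ.range := by
    refine Solvable.isSolvable_of_le hY ?_
    rintro _ ⟨⟨_, ψ, rfl⟩, rfl⟩
    exact ⟨ψ, MulEquiv.ext fun e => rfl⟩
  haveI : Group.IsSolvable θ.ker := by
    refine Group.isSolvable_of_isSolvable_injective (f := ({
      toFun := fun k => ⟨((k : X) : MulAut ↥(S : Subgroup G)), (k : X).2, fun e he => Subtype.ext
        (congrArg Subtype.val (DFunLike.congr_fun (MonoidHom.mem_ker.1 k.2)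
          ⟨(e : G), mem_subgroupOf.1 he⟩) :)⟩
      map_one' := rfl
      map_mul' := fun _ _ => rfl } : θ.ker →* K)) ?_
    intro a b h
    exact Subtype.ext (Subtype.ext (congrArg Subtype.val h :))
  exact isSolvable_of_ker_map θ

end CfsgLib.LocalEven.OutCond
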