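import Cfsg.Agent.S0205
import Cfsg.Agent.Lib.LocalEven.Out.AutTools
import Cfsg.Agent.Lib.PGroup.AnisoQuadratic
import Cfsg.Agent.Lib.Transfer.Basic

/-!
The isometries of an anisotropic quadratic map with equally large fibres form a solvable group.
-/

set_option autoImplicit false

namespace CfsgLib.LocalEven.OutIso

open Subgroup CfsgLib.LocalEven.OutTools CfsgLib.PGroup.AnisoQuad

variable {M V : Type*} [CommGroup M] [CommGroup V] [Finite M] [Finite V]

/-- The kernel of the polar map at a point. -/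
def bilKer (F : Form M V) (u : M) : Subgroup M where
  carrier := {x | F.bil u x = 1}
  one_mem' := by
    show F.bil u 1 = 1
    unfold Form.bil
    rw [mul_one, F.q_one, mul_one, ← sq, F.sqV]
  mul_mem' := by
    intro a b (ha : F.bil u a = 1) (hb : F.bil u b = 1)
    show F.bil u (a * b) = 1
    rw [F.bil_comm, F.bil_mul_left, F.bil_comm a, F.bil_comm b, ha, hb, one_mul]
  inv_mem' := by
    intro a (ha : F.bil u a = 1)
    show F.bil u a⁻¹ = 1
    rwa [inv_eq_of_mul_eq_one_right (show a * a = 1 by rw [← sq, F.sqM])]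

omit [Finite M] [Finite V] in
theorem mem_bilKer {F : Form M V} {u x : M} : x ∈ bilKer F u ↔ F.bil u x = 1 := Iff.rfl

omit [Finite M] [Finite V] in
theorem self_mem_bilKer (F : Form M V) (u : M) : u ∈ bilKer F u := by
  show F.bil u u = 1
  unfold Form.bil
  rw [show u * u = 1 by rw [← sq, F.sqM], F.q_one, one_mul, ← sq, F.sqV]

omit [Finite M] [Finite V] in
/-- Isometries preserve the polar map. -/
theorem bil_map (F : Form M V) {t : MulAut M} (ht : ∀ x, F.q (t x) = F.q x) (u x : M) :
    F.bil (t u) (t x) = F.bil u x := by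
  unfold Form.bil
  rw [← map_mul, ht, ht, ht]

/-- All fibres over nonidentity elements equal and the source as large as possible: the polar map
is surjective at every nonidentity point. -/
theorem card_bilKer (F : Form M V) {n c : ℕ} (hV : Nat.card V = 2 ^ n)
    (hM : Nat.card M = 2 ^ (2 * n)) (hfib : ∀ v : V, v ≠ 1 → {u | F.q u = v}.ncard = c)
    {u : M} (hu : u ≠ 1) : Nat.card (bilKer F u) = 2 ^ n := by
  classical
  haveI : Fact (Nat.Prime 2) := ⟨Nat.prime_two⟩
  haveI : Fintype M := Fintype.ofFinite M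
  haveI : Fintype V := Fintype.ofFinite V
  let β : M →* V :=
    { toFun := F.bil u
      map_one' := (bilKer F u).one_mem
      map_mul' := fun a b => by rw [F.bil_comm, F.bil_mul_left, F.bil_comm a, F.bil_comm b] }
  have hker : β.ker = bilKer F u := rfl
  by_cases hsurj : β.range = ⊤
  · have h := β.ker.card_mul_index
    rw [Subgroup.index_ker, hsurj, card_top, hV, hM, hker] at h
    refine Nat.eq_of_mul_eq_mul_right (pow_pos two_pos n) ?_
    rw [h, ← pow_add]
    congr 1
    omega
  exfalso
  -- a character trivial on the image of the polar map at `u`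
  obtain ⟨H, hH, hHmax⟩ := Finite.exists_le_maximal (p := fun H : Subgroup V => H ≠ ⊤)
    (a := β.range) hsurj
  have h2 : ∀ v : V, v * v = 1 := fun v => by rw [← sq, F.sqV]
  have hidx : H.index = 2 := by
    refine index_eq_two_iff.2 ?_
    obtain ⟨a, haH⟩ : ∃ a, a ∉ H := by
      by_contra h
      push Not at h
      exact hHmax.1 (eq_top_iff.2 fun x _ => h x)
    refine ⟨a, fun b => ?_⟩
    by_cases hb : b ∈ H
    · exact Or.inr ⟨hb, fun h => haH (by simpa using mul_mem (inv_mem hb) h)⟩
    · refine Or.inl ⟨?_, hb⟩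
      have htop : H ⊔ zpowers a = ⊤ := by
        by_contra hne
        exact haH (hHmax.2 hne le_sup_left (mem_sup_right (mem_zpowers a)))
      have hmem : b ∈ (↑(H ⊔ zpowers a) : Set V) := by rw [htop]; trivial
      rw [normal_mul] at hmem
      obtain ⟨h₁, hh₁, _, ⟨i, rfl⟩, rfl⟩ := Set.mem_mul.1 hmem
      rcases Int.even_or_odd i with ⟨j, hj⟩ | ⟨j, hj⟩
      · refine absurd ?_ hb
        show h₁ * a ^ i ∈ H
        rw [hj, zpow_add, ← mul_zpow, h2, one_zpow, mul_one]
        exact hh₁
      · show h₁ * a ^ i * a ∈ H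
        rw [hj, zpow_add, zpow_one, mul_assoc, mul_assoc, h2, mul_one, two_mul, zpow_add,
          ← mul_zpow, h2, one_zpow, mul_one]
        exact hh₁
  let χ : V → ℤ := fun v => if v ∈ H then 1 else -1
  have hχ : ∀ v w, χ (v * w) = χ v * χ w := by
    intro v w
    simp only [χ]
    have hm := mul_mem_iff_of_index_two hidx (a := v) (b := w)
    split_ifs <;> simp_all
  have hχ1 : χ 1 = 1 := if_pos H.one_mem
  have hχrange : ∀ x : M, χ (F.bil u x) = 1 := fun x => if_pos (hH ⟨x, rfl⟩)
  have hχsum : ∑ v : V, χ v = 0 := by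
    obtain ⟨a, ha⟩ : ∃ a, a ∉ H := by
      by_contra h
      push Not at h
      exact hHmax.1 (eq_top_iff.2 fun x _ => h x)
    have h := Fintype.sum_equiv (Equiv.mulLeft a) (fun v => χ (a * v)) χ fun v => rfl
    simp only [hχ, ← Finset.mul_sum, show χ a = -1 from if_neg ha] at h
    linarith
  let s : M → ℤ := fun x => χ (F.q x)
  have hs_mul : ∀ x y, s (x * y) = s x * s y * χ (F.bil x y) := by
    intro x y
    simp only [s, ← hχ]
    congr 1
    unfold Form.bil
    have e : F.q x * F.q y * (F.q (x * y) * F.q x * F.q y) =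
        F.q (x * y) * (F.q x * F.q x) * (F.q y * F.q y) := by ac_rfl
    rw [e, h2, h2, mul_one, mul_one]
  set S := ∑ x : M, s x with hSdef
  have hS : S = 1 - (c : ℤ) := by
    have h1 : S = ∑ v : V, (({x | F.q x = v}.ncard : ℕ) : ℤ) * χ v := by
      rw [hSdef, ← Finset.sum_fiberwise Finset.univ F.q s]
      refine Finset.sum_congr rfl fun v _ => ?_
      rw [Finset.sum_congr rfl (g := fun _ => χ v) fun x hx => by
        show χ (F.q x) = χ v
        rw [(Finset.mem_filter.1 hx).2], Finset.sum_const, nsmul_eq_mul,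
        Set.ncard_eq_toFinset_card']
      congr 3
      ext x
      simp
    have hone : {x | F.q x = 1}.ncard = 1 := by
      rw [show {x | F.q x = 1} = {(1 : M)} by
        ext x; exact ⟨fun h => F.aniso x h, fun h => by rw [Set.mem_singleton_iff.1 h]; exact F.q_one⟩]
      exact Set.ncard_singleton 1
    rw [h1, ← Finset.sum_erase_add _ _ (Finset.mem_univ (1 : V)), hone, hχ1,
      Finset.sum_congr rfl (g := fun v => (c : ℤ) * χ v) fun v hv => by
        rw [hfib v (Finset.ne_of_mem_erase hv)], ← Finset.mul_sum,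
      Finset.sum_erase_eq_sub (Finset.mem_univ _), hχsum, hχ1]
    ring
  -- the total number of points
  have htot : (2 ^ (2 * n) : ℕ) = 1 + c * (2 ^ n - 1) := by
    rw [← hM, Nat.card_eq_fintype_card, ← Finset.card_univ,
      Finset.card_eq_sum_card_fiberwise (f := F.q) (t := Finset.univ) (fun _ _ => Finset.mem_univ _),
      ← Finset.add_sum_erase _ _ (Finset.mem_univ (1 : V))]
    congr 1
    · rw [show (Finset.univ.filter fun x => F.q x = 1) = {(1 : M)} by
        ext x
        simp only [Finset.mem_filter, Finset.mem_univ, true_and, Finset.mem_singleton]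
        exact ⟨F.aniso x, fun h => h ▸ F.q_one⟩]
      rfl
    · rw [Finset.sum_congr rfl (g := fun _ => c) fun v hv => by
        rw [← hfib v (Finset.ne_of_mem_erase hv), Set.ncard_eq_toFinset_card']
        congr 1
        ext x
        simp, Finset.sum_const, Finset.card_erase_of_mem (Finset.mem_univ _), Finset.card_univ,
        ← Nat.card_eq_fintype_card, hV, smul_eq_mul, mul_comm]
  have hn1 : 1 ≤ n := by
    by_contra h
    have : Nat.card M = 1 := by rw [hM, show n = 0 by omega]; norm_num
    haveI := (Nat.card_eq_one_iff_unique.1 this).1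
    exact hu (Subsingleton.elim _ _)
  have hc : c = 2 ^ n + 1 := by
    have h1 : 1 ≤ 2 ^ n := Nat.one_le_two_pow
    have h2' : 2 ^ (2 * n) = 2 ^ n * 2 ^ n := by rw [← pow_add]; congr 1; omega
    have h3 : 2 ≤ 2 ^ n := by
      calc 2 = 2 ^ 1 := rfl
        _ ≤ 2 ^ n := Nat.pow_le_pow_right two_pos hn1
    obtain ⟨N, hN⟩ : ∃ N, 2 ^ n = N + 1 := ⟨2 ^ n - 1, by omega⟩
    rw [h2', hN, Nat.add_sub_cancel] at htot
    rw [hN]
    refine Nat.eq_of_mul_eq_mul_right (show 0 < N by omega) ?_
    nlinarith
  have hS' : S = -(2 ^ n : ℤ) := by rw [hS, hc]; push_cast; ring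
  -- the square of the sum
  have hsq : S * S = ∑ x : M, s x * ∑ y : M, χ (F.bil y x) := by
    have h1 : S * S = ∑ y : M, ∑ x : M, s y * s (y * x) := by
      rw [hSdef, Finset.sum_mul]
      refine Finset.sum_congr rfl fun y _ => ?_
      rw [Finset.mul_sum]
      exact (Fintype.sum_equiv (Equiv.mulLeft y) (fun x => s y * s (y * x)) (fun x => s y * s x)
        fun x => rfl).symm
    rw [h1, Finset.sum_comm]
    refine Finset.sum_congr rfl fun x _ => ?_
    rw [Finset.mul_sum]
    refine Finset.sum_congr rfl fun y _ => ?_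
    rw [hs_mul]
    have : s y * s y = 1 := by
      simp only [s, χ]
      split_ifs <;> norm_num
    rw [← mul_assoc, ← mul_assoc, this, one_mul]
  have hrad1 : ∀ x : M, (∀ y, χ (F.bil y x) = 1) → s x = 1 := by
    intro x hx
    by_contra hne
    have hsx : s x = -1 := by
      simp only [s, χ] at hne ⊢
      split_ifs at hne ⊢ with h
      · exact absurd rfl hne
      · rfl
    have h := Fintype.sum_equiv (Equiv.mulRight x) (fun y => s (y * x)) s fun y => rfl
    simp only [hs_mul, hx, hsx, mul_neg, mul_one, Finset.sum_neg_distrib, ← hSdef] at h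
    have hpos : (0 : ℤ) < 2 ^ n := by positivity
    linarith
  have hinner : ∀ x : M, s x * ∑ y : M, χ (F.bil y x) =
      if (∀ y, χ (F.bil y x) = 1) then (Fintype.card M : ℤ) else 0 := by
    intro x
    split_ifs with h
    · rw [hrad1 x h, one_mul, Finset.sum_congr rfl fun y _ => h y, Finset.sum_const,
        Finset.card_univ, nsmul_eq_mul, mul_one]
    · push Not at h
      obtain ⟨y₀, hy₀⟩ := h
      have hval : χ (F.bil y₀ x) = -1 := by
        simp only [χ] at hy₀ ⊢
        split_ifs at hy₀ ⊢ with h'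
        · exact absurd rfl hy₀
        · rfl
      have h := Fintype.sum_equiv (Equiv.mulLeft y₀) (fun y => χ (F.bil (y₀ * y) x))
        (fun y => χ (F.bil y x)) fun y => rfl
      simp only [F.bil_mul_left, hχ, hval, neg_mul, one_mul, Finset.sum_neg_distrib] at h
      have : ∑ y : M, χ (F.bil y x) = 0 := by linarith
      rw [this, mul_zero]
  have hcardM : (Fintype.card M : ℤ) = (2 ^ n : ℤ) * 2 ^ n := by
    rw [← Nat.card_eq_fintype_card, hM, ← pow_add]
    push_cast
    congr 1
    omega
  have hrad : (({1, u} : Finset M)) ⊆ Finset.univ.filter fun x => ∀ y, χ (F.bil y x) = 1 := by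
    intro x hx
    rw [Finset.mem_filter]
    refine ⟨Finset.mem_univ _, fun y => ?_⟩
    rcases Finset.mem_insert.1 hx with rfl | hx
    · rw [show F.bil y 1 = 1 from (bilKer F y).one_mem]; exact hχ1
    · rw [Finset.mem_singleton.1 hx, F.bil_comm]; exact hχrange y
  have h2le := Finset.card_le_card hrad
  rw [Finset.card_pair (Ne.symm hu)] at h2le
  have hkey : S * S = ((Finset.univ.filter fun x => ∀ y, χ (F.bil y x) = 1).card : ℤ) *
      (Fintype.card M : ℤ) := by
    rw [hsq, Finset.sum_congr rfl fun x _ => hinner x, ← Finset.sum_filter, Finset.sum_const,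
      nsmul_eq_mul]
  rw [hS', hcardM] at hkey
  have hpos : (0 : ℤ) < 2 ^ n * 2 ^ n := by positivity
  have h2le' : (2 : ℤ) ≤ ((Finset.univ.filter fun x => ∀ y, χ (F.bil y x) = 1).card : ℤ) := by
    exact_mod_cast h2le
  nlinarith

/-- The group of isometries of an anisotropic quadratic map with constant fibres is solvable. -/
theorem isSolvable_isometries (F : Form M V) {c : ℕ}
    (hfib : ∀ v : V, v ≠ 1 → {u | F.q u = v}.ncard = c) (K : Subgroup (MulAut M))
    (hK : ∀ k ∈ K, ∀ x, F.q (k x) = F.q x) : Group.IsSolvable K := by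
  classical
  haveI : Fact (Nat.Prime 2) := ⟨Nat.prime_two⟩
  haveI : Finite (MulAut M) :=
    Finite.of_injective (fun φ : MulAut M => (φ : M → M)) DFunLike.coe_injective
  haveI : Fintype M := Fintype.ofFinite M
  haveI : Fintype V := Fintype.ofFinite V
  have h2M : ∀ u : M, u * u = 1 := fun u => by rw [← sq, F.sqM]
  have h2V : ∀ u : V, u * u = 1 := fun u => by rw [← sq, F.sqV]
  obtain ⟨n, hn⟩ := IsPGroup.iff_card.1 (show IsPGroup 2 V from fun v => ⟨1, by simpa using F.sqV v⟩)
  obtain ⟨m, hm, hmn⟩ := F.card_le hn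
  have htot : (2 ^ m : ℕ) = 1 + c * (2 ^ n - 1) := by
    rw [← hm, Nat.card_eq_fintype_card, ← Finset.card_univ,
      Finset.card_eq_sum_card_fiberwise (f := F.q) (t := Finset.univ) (fun _ _ => Finset.mem_univ _),
      ← Finset.add_sum_erase _ _ (Finset.mem_univ (1 : V))]
    congr 1
    · rw [show (Finset.univ.filter fun x => F.q x = 1) = {(1 : M)} by
        ext x
        simp only [Finset.mem_filter, Finset.mem_univ, true_and, Finset.mem_singleton]
        exact ⟨F.aniso x, fun h => h ▸ F.q_one⟩]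
      rfl
    · rw [Finset.sum_congr rfl (g := fun _ => c) fun v hv => by
        rw [← hfib v (Finset.ne_of_mem_erase hv), Set.ncard_eq_toFinset_card']
        congr 1
        ext x
        simp, Finset.sum_const, Finset.card_erase_of_mem (Finset.mem_univ _), Finset.card_univ,
        ← Nat.card_eq_fintype_card, hn, smul_eq_mul, mul_comm]
  by_cases hmle : m ≤ n
  · -- injective
    have hinj : ∀ x y : M, F.q x = F.q y → x = y := by
      intro x y hxy
      by_cases hy1 : F.q y = 1
      · rw [F.aniso y hy1, F.aniso x (hxy.trans hy1)]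
      have hc : c ≤ 1 := by
        have h1 : 1 ≤ 2 ^ n := Nat.one_le_two_pow
        have h2 : 2 ^ m ≤ 2 ^ n := Nat.pow_le_pow_right two_pos hmle
        have h3 : 2 ≤ 2 ^ n := by
          rw [← hn]
          haveI : Nontrivial V := ⟨⟨F.q y, 1, hy1⟩⟩
          exact Finite.one_lt_card
        by_contra hgt
        have h4 : 2 * (2 ^ n - 1) ≤ c * (2 ^ n - 1) := Nat.mul_le_mul_right _ (by omega)
        omega
      exact (Set.ncard_le_one_iff (Set.toFinite _)).1 ((hfib _ hy1).le.trans hc) hxy rfl
    exact Group.isSolvable_of_comm fun a b => Subtype.ext (by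
      have ha : (a : MulAut M) = 1 := MulEquiv.ext fun x => hinj _ _ (hK a a.2 x)
      have hb : (b : MulAut M) = 1 := MulEquiv.ext fun x => hinj _ _ (hK b b.2 x)
      simp [ha, hb])
  have hm2n : m = 2 * n := by
    have hn0 : n ≠ 0 := by
      rintro rfl
      omega
    have hdvd : 2 ^ n - 1 ∣ 2 ^ m - 1 := ⟨c, by rw [htot, Nat.add_sub_cancel_left, mul_comm]⟩
    have hg := Nat.pow_sub_one_gcd_pow_sub_one 2 n m
    rw [Nat.gcd_eq_left hdvd] at hg
    have hgl : n = Nat.gcd n m := by
      refine Nat.pow_right_injective (le_refl 2) ?_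
      have e1 : 1 ≤ 2 ^ n := Nat.one_le_two_pow
      have e2 : 1 ≤ 2 ^ Nat.gcd n m := Nat.one_le_two_pow
      show 2 ^ n = 2 ^ Nat.gcd n m
      omega
    obtain ⟨k, hk⟩ := (hgl ▸ Nat.gcd_dvd_right n m : n ∣ m)
    rcases k with _ | _ | _ | k
    · omega
    · omega
    · omega
    · exfalso
      have : n * (k + 1 + 1 + 1) ≤ 2 * n := hk ▸ hmn
      nlinarith [Nat.pos_of_ne_zero hn0]
  subst hm2n
  have hker := fun (u : M) (hu : u ≠ 1) => card_bilKer F hn hm hfib hu
  -- nonidentity elements of odd prime order fix no point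
  have hfpf : ∀ ℓ : ℕ, ℓ.Prime → ℓ ≠ 2 → ∀ t ∈ K, t ^ ℓ = 1 → t ≠ 1 → ∀ u, t u = u → u = 1 := by
    intro ℓ hℓ hℓ2 t ht htℓ ht1 u htu
    haveI := Fact.mk hℓ
    by_contra hu
    set W := fixSubgroup t with hW
    let d : M →* M :=
      { toFun := fun x => t x * x
        map_one' := by simp
        map_mul' := fun x y => by rw [map_mul]; ac_rfl }
    set W' := d.range with hW'
    have hkerd : d.ker = W := by
      ext x
      show t x * x = 1 ↔ t x = x
      rw [mul_eq_one_iff_eq_inv, inv_eq_of_mul_eq_one_right (h2M x)]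
    have horth : ∀ x ∈ W, W' ≤ bilKer F x := by
      rintro x hx _ ⟨y, rfl⟩
      show F.bil x (t y * y) = 1
      rw [F.bil_comm, F.bil_mul_left, F.bil_comm y, F.bil_comm (t y)]
      have h := bil_map F (hK t ht) x y
      rw [mem_fixSubgroup.1 hx] at h
      rw [h, h2V]
    have hdisj : W ⊓ W' = ⊥ := by
      refine (Subgroup.eq_bot_iff_forall _).2 fun w hw => ?_
      obtain ⟨hw1, y, rfl⟩ := hw
      set w := d y with hwdef
      have hty : t y = y * w := by
        show t y = y * (t y * y)
        rw [mul_comm (t y) y, ← mul_assoc, h2M, one_mul]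
      have hpow : ∀ i : ℕ, (t ^ i) y = y * w ^ i := by
        intro i
        induction i with
        | zero => simp
        | succ i ih =>
          rw [pow_succ', MulAut.mul_apply, ih, map_mul, map_pow, hty, mem_fixSubgroup.1 hw1,
            pow_succ', mul_assoc]
      have h := hpow ℓ
      rw [htℓ, MulAut.one_apply] at h
      have h1 : w ^ ℓ = 1 := left_eq_mul.1 h
      obtain ⟨j, hj⟩ := hℓ.odd_of_ne_two hℓ2
      rw [hj, pow_succ, pow_mul, F.sqM, one_pow, one_mul] at h1
      exact h1
    have hW'ne : W' ≠ ⊥ := fun h => ht1 (MulEquiv.ext fun x => by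
      have : d x = 1 := by rw [← mem_bot, ← h]; exact ⟨x, rfl⟩
      exact mem_fixSubgroup.1 (hkerd ▸ (MonoidHom.mem_ker.2 this) : x ∈ W))
    have hmul : Nat.card W * Nat.card W' = 2 ^ (2 * n) := by
      rw [← hm, ← hkerd, hW', ← Subgroup.index_ker, card_mul_index]
    obtain ⟨⟨w', hw'⟩, hw'1⟩ := ne_bot_iff_exists_ne_one.1 hW'ne
    have hw'1' : w' ≠ 1 := fun h => hw'1 (Subtype.ext h)
    have hpush : ∀ (A : Subgroup M) (a x : M), A ≤ bilKer F a → x ∈ bilKer F a → x ∉ A → a ≠ 1 →
        2 * Nat.card A ≤ 2 ^ n := by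
      intro A a x hA hx hxA ha
      rw [← hker a ha]
      have hlt : A < bilKer F a := lt_of_le_of_ne hA fun h => hxA (h ▸ hx)
      obtain ⟨k, hk⟩ := card_dvd_of_le hA
      rw [hk, mul_comm]
      refine Nat.mul_le_mul_left _ ?_
      rcases k with _ | _ | k
      · have := Nat.card_pos (α := bilKer F a); omega
      · exact absurd (eq_of_le_of_card_ge hA (by omega)) hlt.ne
      · omega
    have a1 := hpush W' u u (horth u htu) (self_mem_bilKer F u) (fun h => hu (by
      have : u ∈ W ⊓ W' := ⟨htu, h⟩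
      rwa [hdisj, mem_bot] at this)) hu
    have a2 := hpush W w' w' (fun x hx => by
        show F.bil w' x = 1
        rw [F.bil_comm]; exact horth x hx hw') (self_mem_bilKer F w') (fun h => hw'1' (by
      have : w' ∈ W ⊓ W' := ⟨h, hw'⟩
      rwa [hdisj, mem_bot] at this)) hw'1'
    have h4 := Nat.mul_le_mul a1 a2
    rw [← pow_add, show n + n = 2 * n by ring, ← hmul] at h4
    have hpos : 0 < Nat.card W * Nat.card W' := Nat.mul_pos Nat.card_pos Nat.card_pos
    nlinarith
  by_cases hodd : Odd (Nat.card K)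
  · exact Cfsg.Agent.S0205.result hodd
  obtain ⟨T⟩ : Nonempty (Sylow 2 K) := inferInstance
  haveI : Nontrivial (T : Subgroup K) := by
    rw [nontrivial_iff_ne_bot]
    exact T.ne_bot_of_dvd_card (even_iff_two_dvd.1 (Nat.not_odd_iff_even.1 hodd))
  haveI := T.2.center_nontrivial
  obtain ⟨z, hz⟩ : ∃ z : center (T : Subgroup K), orderOf z = 2 := by
    refine exists_prime_orderOf_dvd_card' 2 ?_
    rcases (T.2.to_subgroup (center (T : Subgroup K))).card_eq_or_dvd with h | h
    · exact absurd h Finite.one_lt_card.ne'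
    · exact h
  set t : MulAut M := (((z : (T : Subgroup K)) : K) : MulAut M) with htdef
  have hto : orderOf t = 2 := by rw [htdef, Subgroup.orderOf_coe, Subgroup.orderOf_coe,
    Subgroup.orderOf_coe, hz]
  have ht2 : ∀ x, t (t x) = x := fun x => by
    rw [← MulAut.mul_apply, ← sq, ← hto, pow_orderOf_eq_one, MulAut.one_apply]
  have htK : t ∈ K := ((z : (T : Subgroup K)) : K).2
  set C := fixSubgroup t with hC
  let d : M →* M :=
    { toFun := fun x => t x * x
      map_one' := by simp
      map_mul' := fun x y => by rw [map_mul]; ac_rfl }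
  have hkerd : d.ker = C := by
    ext x
    show t x * x = 1 ↔ t x = x
    rw [mul_eq_one_iff_eq_inv, inv_eq_of_mul_eq_one_right (h2M x)]
  have hrange : d.range ≤ C := by
    rintro _ ⟨x, rfl⟩
    show t (t x * x) = t x * x
    rw [map_mul, ht2, mul_comm]
  have horth : ∀ x ∈ C, ∀ y, F.bil x (d y) = 1 := fun x hx y => by
    show F.bil x (t y * y) = 1
    rw [F.bil_comm, F.bil_mul_left, F.bil_comm y, F.bil_comm (t y)]
    have h := bil_map F (hK t htK) x y
    rw [mem_fixSubgroup.1 hx] at h
    rw [h, h2V]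
  have hmulC : Nat.card C * Nat.card d.range = 2 ^ (2 * n) := by
    rw [← hm, ← hkerd, ← Subgroup.index_ker, card_mul_index]
  obtain ⟨e, he⟩ : ∃ e : M, d e ≠ 1 := by
    by_contra h
    push Not at h
    have ht1 : t = 1 := MulEquiv.ext fun x => mem_fixSubgroup.1 (by
      have hx : x ∈ d.ker := MonoidHom.mem_ker.2 (h x)
      rwa [hkerd] at hx)
    rw [ht1, orderOf_one] at hto
    omega
  have hCle : C ≤ bilKer F (d e) := fun x hx => by
    show F.bil (d e) x = 1
    rw [F.bil_comm]; exact horth x hx e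
  have hCn : Nat.card C = 2 ^ n ∧ Nat.card d.range = 2 ^ n := by
    have h1 : Nat.card C ≤ 2 ^ n := hker _ he ▸ Nat.card_le_card_of_injective _ (inclusion_injective hCle)
    have h2 : Nat.card d.range ≤ Nat.card C := Nat.card_le_card_of_injective _ (inclusion_injective hrange)
    have h3 : 0 < Nat.card C := Nat.card_pos
    rw [show 2 ^ (2 * n) = 2 ^ n * 2 ^ n by rw [← pow_add]; congr 1; omega] at hmulC
    constructor <;> nlinarith
  have hCr : d.range = C := eq_of_le_of_card_ge hrange (by rw [hCn.1, hCn.2])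
  have hinj : ∀ x ∈ C, ∀ y ∈ C, F.q x = F.q y → x = y := by
    intro x hx y hy hxy
    obtain ⟨w, rfl⟩ : y ∈ d.range := hCr ▸ hy
    exact F.eq_of_bil_eq_one (horth x hx w) hxy
  have hCne : ∃ w ∈ C, w ≠ 1 := ⟨d e, hrange ⟨e, rfl⟩, he⟩
  -- elements normalising `C` fix it pointwise
  have hfixC : ∀ g ∈ K, (∀ x ∈ C, g x ∈ C) → ∀ x ∈ C, g x = x := fun g hg h x hx =>
    hinj _ (h x hx) _ hx (hK g hg x)
  have hnormC : ∀ g : MulAut M, Commute g t → ∀ x ∈ C, g x ∈ C := fun g hg x hx => by
    rw [hC, mem_fixSubgroup] at hx ⊢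
    rw [← MulAut.mul_apply, ← hg.eq, MulAut.mul_apply, hx]
  have hTfix : ∀ g : (T : Subgroup K), ∀ x ∈ C, ((g : K) : MulAut M) x = x := fun g =>
    hfixC _ (g : K).2 (hnormC _ (congrArg (fun a : (T : Subgroup K) => ((a : K) : MulAut M))
      (mem_center_iff.1 z.2 g)))
  -- the fixed points of `T` are `C`
  have hfixT : ∀ x : M, (∀ g : (T : Subgroup K), ((g : K) : MulAut M) x = x) ↔ x ∈ C :=
    fun x => ⟨fun h => mem_fixSubgroup.2 (h (z : (T : Subgroup K))), fun h g => hTfix g x h⟩
  have hN : ∀ h ∈ normalizer ((T : Subgroup K) : Set K), h ∈ (T : Subgroup K) := by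
    have hNP : IsPGroup 2 ↥(normalizer ((T : Subgroup K) : Set K)) := by
      refine isPGroup_of_prime_elements fun ℓ hℓ hℓ2 g hg => by_contra fun hg1 => ?_
      set g' : MulAut M := (((g : ↥(normalizer ((T : Subgroup K) : Set K))) : K) : MulAut M) with hg'
      have hg'1 : g' ≠ 1 := fun h => hg1 (Subtype.ext (Subtype.ext h))
      have hg'ℓ : g' ^ ℓ = 1 :=
        congrArg (fun a : ↥(normalizer ((T : Subgroup K) : Set K)) => ((a : K) : MulAut M)) hg
      have hgC : ∀ x ∈ C, g' x ∈ C := fun x hx => (hfixT _).1 fun a => by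
        have ha' : (g : K)⁻¹ * a * g ∈ (T : Subgroup K) :=
          by simpa using (mem_normalizer_iff.1 (inv_mem g.2) (a : K)).1 a.2
        have h1 := hTfix ⟨_, ha'⟩ x hx
        calc ((a : K) : MulAut M) (g' x)
            = g' ((g'⁻¹ * ((a : K) : MulAut M) * g') x) := by
              simp only [MulAut.mul_apply]
              exact (MulEquiv.apply_symm_apply g' _).symm
          _ = g' x := congrArg g' h1
      obtain ⟨w, hwC, hw1⟩ := hCne
      exact hw1 (hfpf ℓ hℓ hℓ2 g' (g : K).2 hg'ℓ hg'1 w (hfixC g' (g : K).2 hgC w hwC))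
    have heq := T.3 hNP le_normalizer
    intro h hh
    exact heq ▸ hh
  have hTcomm : ∀ a b : (T : Subgroup K), a * b = b * a := by
    have hmove : ∀ g : (T : Subgroup K), ∀ x, x * ((g : K) : MulAut M) x ∈ C := by
      intro g x
      obtain ⟨w, hwC, hw1⟩ := hCne
      have hle : C ≤ bilKer F w := fun y hy => by
        show F.bil w y = 1
        obtain ⟨y', rfl⟩ : y ∈ d.range := hCr ▸ hy
        exact horth w hwC y'
      have heq : C = bilKer F w := eq_of_le_of_card_ge hle (by rw [hker w hw1, hCn.1])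
      rw [heq]
      show F.bil w (x * ((g : K) : MulAut M) x) = 1
      rw [F.bil_comm, F.bil_mul_left, F.bil_comm x, F.bil_comm _ w]
      have h := bil_map F (hK _ (g : K).2) w x
      rw [hTfix g w hwC] at h
      rw [h, h2V]
    intro a b
    refine Subtype.ext (Subtype.ext (MulEquiv.ext fun x => ?_))
    have key : ∀ (g : (T : Subgroup K)) x, ((g : K) : MulAut M) x = x * (x * ((g : K) : MulAut M) x) :=
      fun g x => by rw [← mul_assoc, h2M, one_mul]
    show ((a : K) : MulAut M) (((b : K) : MulAut M) x) = ((b : K) : MulAut M) (((a : K) : MulAut M) x)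
    conv_lhs => rw [key b x, map_mul, hTfix a _ (hmove b x), key a x]
    conv_rhs => rw [key a x, map_mul, hTfix b _ (hmove a x), key b x]
    ac_rfl
  have hburn := MonoidHom.ker_transferSylow_isComplement' T (fun h hh =>
    mem_centralizer_iff.2 fun x hx =>
      congrArg (fun a : (T : Subgroup K) => (a : K)) (hTcomm ⟨x, hx⟩ ⟨h, hN h hh⟩))
  set N := (MonoidHom.transferSylow T (fun h hh =>
    mem_centralizer_iff.2 fun x hx =>
      congrArg (fun a : (T : Subgroup K) => (a : K)) (hTcomm ⟨x, hx⟩ ⟨h, hN h hh⟩))).ker with hNdef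
  have hNodd : Odd (Nat.card N) := by
    rw [← hburn.index_eq_card]
    refine Nat.not_even_iff_odd.1 fun he => T.not_dvd_index (even_iff_two_dvd.1 he)
  haveI : Group.IsSolvable N := Cfsg.Agent.S0205.result hNodd
  haveI : Group.IsSolvable (K ⧸ N) := by
    haveI : Group.IsSolvable (T : Subgroup K) := Group.isSolvable_of_comm hTcomm
    exact Group.isSolvable_of_surjective (f := hburn.symm.QuotientMulEquiv.symm.toMonoidHom)
      (MulEquiv.surjective _)
  exact (Group.isSolvable_iff_subgroup_quotient N).2 ⟨inferInstance, inferInstance⟩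

end CfsgLib.LocalEven.OutIso
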