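import Cfsg.Prelude.Def_KGroupFacts
import Cfsg.Agent.Lib.Invol.FixedPointAutGroup

/-!
# The outer automorphism group and the automorphisms of a Sylow 2-subgroup
-/

set_option autoImplicit false

namespace CfsgLib.LocalEven.SylowAut

open Cfsg

universe u

variable {G : Type u} [Group G]

/-- The automorphisms of `G` leaving `S` invariant. -/
def stab (S : Subgroup G) : Subgroup (MulAut G) where
  carrier := {φ | ∀ g : G, φ g ∈ S ↔ g ∈ S}
  mul_mem' {φ ψ} hφ hψ g := (hφ (ψ g)).trans (hψ g)
  one_mem' g := Iff.rfl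
  inv_mem' {φ} hφ g := by
    have := hφ (φ⁻¹ g)
    rw [show φ (φ⁻¹ g) = g from φ.apply_symm_apply g] at this
    exact this.symm

/-- Restriction of an automorphism to an invariant subgroup. -/
def restr (S : Subgroup G) : ↥(stab S) →* MulAut ↥S where
  toFun φ :=
    { toFun := fun s => ⟨(φ : MulAut G) s, (φ.2 s).2 s.2⟩
      invFun := fun s => ⟨(φ : MulAut G).symm s, (φ.2 _).1 (by rw [MulEquiv.apply_symm_apply]; exact s.2)⟩
      left_inv := fun s => Subtype.ext ((φ : MulAut G).symm_apply_apply _)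
      right_inv := fun s => Subtype.ext ((φ : MulAut G).apply_symm_apply _)
      map_mul' := fun s t => Subtype.ext (map_mul (φ : MulAut G) _ _) }
  map_one' := MulEquiv.ext fun _ => Subtype.ext rfl
  map_mul' φ ψ := MulEquiv.ext fun _ => Subtype.ext rfl

/-- Frattini argument: every outer automorphism is induced by one fixing `S`. -/
theorem mk_stab_surjective [Finite G] {p : ℕ} [Fact p.Prime] (S : Sylow p G) :
    Function.Surjective ((QuotientGroup.mk' (Inn G)).comp (stab (S : Subgroup G)).subtype) := by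
  intro x
  obtain ⟨φ, rfl⟩ := QuotientGroup.mk'_surjective (Inn G) x
  obtain ⟨g, hg⟩ := MulAction.exists_smul_eq G (S.comapOfInjective φ.toMonoidHom φ.injective
    (by rw [MonoidHom.range_eq_top.2 φ.surjective]; exact le_top)) S
  refine ⟨⟨φ * MulAut.conj g⁻¹, fun x => ?_⟩, ?_⟩
  · show φ (g⁻¹ * x * g⁻¹⁻¹) ∈ (S : Subgroup G) ↔ x ∈ (S : Subgroup G)
    have h1 : x ∈ (S : Subgroup G) ↔
        x ∈ ((S : Subgroup G).comap φ.toMonoidHom).map (MulAut.conj g).toMonoidHom := by
      conv_lhs => rw [← hg]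
      rfl
    rw [h1]
    constructor
    · intro h; exact ⟨_, h, by simp [mul_assoc]⟩
    · rintro ⟨y, hy, rfl⟩
      have hy' : φ y ∈ (S : Subgroup G) := hy
      simpa [mul_assoc] using hy'
  · show QuotientGroup.mk' (Inn G) (φ * MulAut.conj g⁻¹) = QuotientGroup.mk' (Inn G) φ
    rw [map_mul, show QuotientGroup.mk' (Inn G) (MulAut.conj g⁻¹) = 1 from
      (QuotientGroup.eq_one_iff _).2 ⟨g⁻¹, rfl⟩, mul_one]

theorem oddNormal_eq_bot [Finite G] [IsSimpleGroup G] (S : Sylow 2 G)
    (hS1 : (S : Subgroup G) ≠ ⊥) (N : Subgroup G) (hN : N.Normal) (hodd : Odd (Nat.card N)) :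
    N = ⊥ := by
  haveI : Fact (Nat.Prime 2) := ⟨Nat.prime_two⟩
  rcases hN.eq_bot_or_eq_top with h | h
  · exact h
  exfalso
  subst h
  rw [Subgroup.card_top] at hodd
  refine hS1 (Subgroup.eq_bot_of_card_eq _ ?_)
  obtain ⟨k, hk⟩ := IsPGroup.iff_card.1 S.2
  rcases k with - | k
  · rw [hk, pow_zero]
  · exact absurd (even_iff_two_dvd.2 ((hk ▸ dvd_pow_self 2 (Nat.succ_ne_zero k)).trans
      (Subgroup.card_subgroup_dvd_card _))) (Nat.not_even_iff_odd.2 hodd)

/-- With the odd order theorem, `Out(G)` is solvable as soon as the image of the stabilizer of a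
Sylow 2-subgroup in its automorphism group is. -/
theorem isSolvable_out_of_range
    (hFT : ∀ (H : Type u) [Group H] [Finite H], Odd (Nat.card H) → Group.IsSolvable H)
    [Finite G] [IsSimpleGroup G] (S : Sylow 2 G) (hS1 : (S : Subgroup G) ≠ ⊥)
    (hX : Group.IsSolvable (restr (S : Subgroup G)).range) : Group.IsSolvable (Out G) := by
  haveI : Fact (Nat.Prime 2) := ⟨Nat.prime_two⟩
  haveI : Finite (MulAut G) := Finite.of_injective (fun φ : MulAut G => (φ : G → G))
    DFunLike.coe_injective
  set ρ := restr (S : Subgroup G)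
  have hmem : ∀ φ : MulAut G, φ ∈ ρ.ker.map (stab (S : Subgroup G)).subtype ↔
      ∀ s : G, s ∈ S → φ s = s := by
    intro φ
    constructor
    · rintro ⟨ψ, hψ, rfl⟩ s hs
      exact congrArg Subtype.val (DFunLike.congr_fun (MonoidHom.mem_ker.1 hψ) ⟨s, hs⟩)
    · intro h
      have hst : φ ∈ stab (S : Subgroup G) := fun g => by
        refine ⟨fun hg => ?_, fun hg => by rw [h g hg]; exact hg⟩
        have h1 : φ (φ g) = φ g := h _ hg
        rwa [φ.injective h1] at hg
      exact ⟨⟨φ, hst⟩, MulEquiv.ext fun s => Subtype.ext (h s s.2), rfl⟩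
  have hC := (CfsgLib.Invol.FixedAut.solvable_of_oddOrder hFT (oddNormal_eq_bot S hS1) S _ hmem).2
  haveI : Group.IsSolvable ρ.ker := Group.isSolvable_of_surjective
    (f := ((ρ.ker.equivMapOfInjective (stab (S : Subgroup G)).subtype
      (Subgroup.subtype_injective _)).symm.toMonoidHom)) (MulEquiv.surjective _)
  haveI : Group.IsSolvable (↥(stab (S : Subgroup G)) ⧸ ρ.ker) :=
    Group.isSolvable_of_surjective (f := (QuotientGroup.quotientKerEquivRange ρ).symm.toMonoidHom)
      (MulEquiv.surjective _)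
  haveI : Group.IsSolvable ↥(stab (S : Subgroup G)) :=
    (Group.isSolvable_iff_subgroup_quotient ρ.ker).2 ⟨inferInstance, inferInstance⟩
  exact Group.isSolvable_of_surjective (mk_stab_surjective S)

/-- With the odd order theorem: if `Aut(S)` is solvable, so is `Out(G)`. -/
theorem isSolvable_out
    (hFT : ∀ (H : Type u) [Group H] [Finite H], Odd (Nat.card H) → Group.IsSolvable H)
    [Finite G] [IsSimpleGroup G] (S : Sylow 2 G) (hS1 : (S : Subgroup G) ≠ ⊥)
    (hS : Group.IsSolvable (MulAut ↥(S : Subgroup G))) : Group.IsSolvable (Out G) :=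
  isSolvable_out_of_range hFT S hS1 inferInstance

end CfsgLib.LocalEven.SylowAut
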